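import Mathlib

/-!
# Ten root groups of an icosahedral plane in characteristic three

With `j ^ 2 = -1`, the group generated by `[[1,1],[0,1]]` and `[[1,0],[j,1]]` has ten root groups.  A rank one
map with centre `(X, Y, *)` and axis `(A, B, *)` whose products with all ten lie in `{0, ±1, ±j}` has
`A X + B Y = 0`.
-/

set_option autoImplicit false

namespace Cfsg.Agent.PSLThree.Trans.Icosa

/-- Pairs `a + b j`. -/
abbrev N9 := ZMod 3 × ZMod 3

/-- Multiplication of pairs. -/
def nmul (s t : N9) : N9 := (s.1 * t.1 - s.2 * t.2, s.1 * t.2 + s.2 * t.1)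

/-- The five admissible products. -/
def five : List N9 := [(0, 0), (1, 0), (2, 0), (0, 1), (0, 2)]

/-- One vector in each of the ten lines. -/
def vecs : List (N9 × N9) :=
  [((1, 0), (0, 0)), ((1, 0), (0, 1)), ((1, 1), (0, 1)), ((1, 0), (0, 2)), ((1, 2), (0, 1)),
    ((1, 2), (0, 2)), ((1, 1), (2, 2)), ((1, 1), (0, 2)), ((0, 0), (2, 2)), ((1, 2), (1, 2))]

/-- The product in terms of `z = A Y`, `x = B Y - A X`, `y = B X`. -/
def val (z x y : N9) (v : N9 × N9) : N9 :=
  nmul (nmul v.1 v.1) z + nmul (nmul v.1 v.2) x - nmul (nmul v.2 v.2) y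

theorem table : five.all (fun z => five.all fun y => five.all fun t =>
    let x := nmul (0, 2) (t - z - y)
    !((vecs.all fun v => decide (val z x y v ∈ five))) || nmul x x + nmul y z == (0, 0)) = true := by
  decide +kernel

variable {F : Type*} [Field F] [CharP F 3] (j : F)

/-- The five values. -/
def Four (v : F) : Prop := v = 0 ∨ v = 1 ∨ v = -1 ∨ v = j ∨ v = -j

/-- The field element of a pair. -/
def ev (s : N9) : F := ZMod.castHom (dvd_refl 3) F s.1 + ZMod.castHom (dvd_refl 3) F s.2 * j

theorem three : (3 : F) = 0 := by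
  have := CharP.cast_eq_zero F 3
  exact_mod_cast this

theorem ev_add (s t : N9) : ev j (s + t) = ev j s + ev j t := by
  simp only [ev, Prod.fst_add, Prod.snd_add, map_add]; ring

theorem ev_sub (s t : N9) : ev j (s - t) = ev j s - ev j t := by
  simp only [ev, Prod.fst_sub, Prod.snd_sub, map_sub]; ring

variable {j} (hj : j ^ 2 = -1)
include hj

theorem ev_mul (s t : N9) : ev j (nmul s t) = ev j s * ev j t := by
  simp only [ev, nmul, map_add, map_sub, map_mul]
  linear_combination (-(ZMod.castHom (dvd_refl 3) F s.2 * ZMod.castHom (dvd_refl 3) F t.2)) * hj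

theorem ev_injective : Function.Injective (ev j) := by
  intro s t h
  have key : ∀ s : N9, ev j s = 0 → s = 0 := by
    intro s hs
    have h1 : ev j (nmul s (s.1, -s.2)) = 0 := by rw [ev_mul hj, hs, zero_mul]
    have h2 : nmul s (s.1, -s.2) = (s.1 * s.1 + s.2 * s.2, 0) := by
      simp only [nmul]; ext <;> ring
    rw [h2, ev, map_zero, zero_mul, add_zero] at h1
    have h3 : s.1 * s.1 + s.2 * s.2 = 0 :=
      (ZMod.castHom (dvd_refl 3) F).injective (h1.trans (map_zero _).symm)
    have key2 : ∀ a b : ZMod 3, a * a + b * b = 0 → a = 0 ∧ b = 0 := by decide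
    exact Prod.ext (key2 _ _ h3).1 (key2 _ _ h3).2
  exact sub_eq_zero.1 (key _ (by rw [ev_sub, h, sub_self]))

omit hj in
theorem ev_two : (2 : F) = -1 := by linear_combination (three (F := F))

theorem exists_five {v : F} (h : Four j v) : ∃ s ∈ five, ev j s = v := by
  have h2 := ev_two (F := F)
  rcases h with rfl | rfl | rfl | rfl | rfl
  · exact ⟨(0, 0), by simp [five], by simp [ev]⟩
  · exact ⟨(1, 0), by simp [five], by simp [ev]⟩
  · exact ⟨(2, 0), by simp [five], by simp only [ev, map_zero, map_ofNat, h2]; ring⟩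
  · exact ⟨(0, 1), by simp [five], by simp [ev]⟩
  · exact ⟨(0, 2), by simp [five], by simp only [ev, map_zero, map_ofNat, h2]; ring⟩

/-- The products with the ten root groups force `A X + B Y = 0`. -/
theorem dot_eq_zero {X Y A B : F}
    (h : ∀ v ∈ vecs, Four j ((ev j v.1 * Y - ev j v.2 * X) * (A * ev j v.1 + B * ev j v.2))) :
    A * X + B * Y = 0 := by
  have h2 := ev_two (F := F)
  obtain ⟨z, hz, ez⟩ := exists_five hj (h ((1, 0), (0, 0)) (by simp [vecs]))
  simp [ev] at ez
  have ez' : ev j z = A * Y := by rw [ev, ZMod.castHom_apply, ZMod.castHom_apply]; linear_combination ez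
  obtain ⟨t, ht, et⟩ := exists_five hj (h ((1, 0), (0, 1)) (by simp [vecs]))
  obtain ⟨w, hw, ew⟩ := exists_five hj (h ((0, 0), (2, 2)) (by simp [vecs]))
  have ey : ev j (nmul (0, 2) w) = B * X := by
    rw [ev_mul hj, ew]
    simp only [ev, map_zero, map_ofNat, zero_mul, zero_add, h2]
    linear_combination (B * X) * (j + 2) * hj - (B * X) * three (F := F)
  have hy : nmul (0, 2) w ∈ five := by
    revert hw; revert w; intro w _ _ hw
    simp only [five, List.mem_cons, List.not_mem_nil, or_false] at hw
    rcases hw with rfl | rfl | rfl | rfl | rfl <;> decide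
  set y := nmul (0, 2) w
  set x := nmul (0, 2) (t - z - y) with hxdef
  have ex : ev j x = B * Y - A * X := by
    rw [hxdef, ev_mul hj, ev_sub, ev_sub, ez', ey, et]
    simp only [ev, map_zero, map_one, map_ofNat, zero_mul, zero_add, add_zero, one_mul, h2]
    linear_combination (j * B * X - B * Y + A * X) * hj
  have eval : ∀ v, ev j (val z x y v) =
      (ev j v.1 * Y - ev j v.2 * X) * (A * ev j v.1 + B * ev j v.2) := by
    intro v
    simp only [val, ev_add, ev_sub, ev_mul hj, ez', ex, ey]
    ring
  have hall : vecs.all (fun v => decide (val z x y v ∈ five)) = true := by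
    rw [List.all_eq_true]
    intro v hv
    obtain ⟨s, hs, es⟩ := exists_five hj (h v hv)
    rw [decide_eq_true_iff, show val z x y v = s from ev_injective hj ((eval v).trans es.symm)]
    exact hs
  have htab := table
  simp only [List.all_eq_true] at htab
  have := htab z hz y hy t ht
  rw [← hxdef] at this
  rw [hall] at this
  simp only [Bool.not_true, Bool.false_or, beq_iff_eq] at this
  have h0 := congrArg (ev j) this
  rw [ev_add, ev_mul hj x x, ev_mul hj y z, ex, ey, ez'] at h0
  simp only [ev, map_zero, zero_mul, add_zero] at h0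
  refine pow_eq_zero_iff two_ne_zero |>.1 ?_
  linear_combination h0 + (A * B * X * Y) * three (F := F)

end Cfsg.Agent.PSLThree.Trans.Icosa
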