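import Mathlib
import Cfsg.Agent.Lib.Forms.DicksonList
import Cfsg.Agent.Lib.Forms.DicksonTrace

/-!
# The group generated by two root groups in a plane

A subgroup of `SL₂(F)`, `p` odd, with a non-trivial upper and a non-trivial lower unipotent element: the
parameters fill a subfield, or `p = 3`, `λ² = -1` and there are three of them.
-/

set_option autoImplicit false
set_option linter.unusedSectionVars false

namespace Cfsg.Agent.PSLThree.Trans.Plane

open MulAction Matrix
open Cfsg.Agent.Forms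
open Cfsg.Agent.Classical.GL2 (uniSL lowSL coe_uniSL coe_lowSL uniSL_mul uniSL_zero)
open scoped MatrixGroups

variable {F : Type*} [Field F] [Fintype F] {p : ℕ} [hp : Fact p.Prime] [CharP F p]

theorem two_ne (hp2 : p ≠ 2) : (2 : F) ≠ 0 := by
  intro h
  have h' : ((2 : ℕ) : F) = 0 := by exact_mod_cast h
  exact hp2 ((Nat.prime_dvd_prime_iff_eq hp.out Nat.prime_two).1 ((CharP.cast_eq_zero_iff F p 2).1 h'))

theorem lowSL_mul (a b : F) : lowSL a * lowSL b = lowSL (a + b) := by
  refine Subtype.ext ?_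
  rw [Matrix.SpecialLinearGroup.coe_mul, coe_lowSL, coe_lowSL, coe_lowSL, Matrix.mul_fin_two]
  simp

theorem lowSL_zero : lowSL (0 : F) = 1 := by
  refine Subtype.ext ?_
  rw [coe_lowSL, Matrix.SpecialLinearGroup.coe_one, one_fin_two]

theorem uniSL_pow (a : F) (n : ℕ) : uniSL a ^ n = uniSL ((n : F) * a) := by
  induction n with
  | zero => simp [uniSL_zero]
  | succ n ih => rw [pow_succ, ih, uniSL_mul]; congr 1; push_cast; ring

theorem lowSL_pow (a : F) (n : ℕ) : lowSL a ^ n = lowSL ((n : F) * a) := by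
  induction n with
  | zero => simp [lowSL_zero]
  | succ n ih => rw [pow_succ, ih, lowSL_mul]; congr 1; push_cast; ring

/-- An element of order `p` belongs to `S` with its negative. -/
theorem mem_of_pi_mem (hp2 : p ≠ 2) {S : Subgroup SL(2, F)} {X : SL(2, F)} (hX : X ^ p = 1)
    (h : KleinPSL.pi F X ∈ S.map (KleinPSL.pi F)) : X ∈ S := by
  obtain ⟨Y, hY, e⟩ := Subgroup.mem_map.1 h
  rcases KleinPSL.pi_eq_iff.1 e with rfl | rfl
  · exact hY
  · have heven : Even (p + 1) := (hp.out.odd_of_ne_two hp2).add_one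
    have h1 : (-X) ^ (p + 1) = X := by rw [heven.neg_pow, pow_succ, hX, one_mul]
    exact h1 ▸ pow_mem hY _

theorem exists_smul_of_mk_eq {A B : GL (Fin 2) F}
    (h : ProjGenLinGroup.mk A = ProjGenLinGroup.mk B) :
    ∃ r : F, r ≠ 0 ∧ (B : Matrix (Fin 2) (Fin 2) F) = r • (A : Matrix (Fin 2) (Fin 2) F) := by
  have h1 : ProjGenLinGroup.mk (A⁻¹ * B) = 1 := by rw [map_mul, map_inv, h, inv_mul_cancel]
  rw [ProjGenLinGroup.mk_eq_one, GeneralLinearGroup.center_eq_range_scalar] at h1
  obtain ⟨r, hr⟩ := h1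
  refine ⟨r, r.ne_zero, ?_⟩
  have h2 : B = A * GeneralLinearGroup.scalar (Fin 2) r := by rw [hr, mul_inv_cancel_left]
  rw [h2]
  ext i j
  simp [mul_comm]

variable (S : Subgroup SL(2, F))

theorem order_uni {a : F} (ha : a ≠ 0) (hp2 : p ≠ 2) :
    uniSL a ^ p = 1 ∧ KleinPSL.pi F (uniSL a) ≠ 1 := by
  refine ⟨by rw [uniSL_pow, CharP.cast_eq_zero, zero_mul, uniSL_zero], fun h => ?_⟩
  rcases KleinPSL.pi_eq_one.1 h with e | e
  · exact ha (by simpa [coe_uniSL] using congrArg (fun M : SL(2, F) => (M : Matrix (Fin 2) (Fin 2) F) 0 1) e)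
  · exact ha (by simpa [coe_uniSL] using congrArg (fun M : SL(2, F) => (M : Matrix (Fin 2) (Fin 2) F) 0 1) e)

theorem order_low {a : F} (ha : a ≠ 0) (hp2 : p ≠ 2) :
    lowSL a ^ p = 1 ∧ KleinPSL.pi F (lowSL a) ≠ 1 := by
  refine ⟨by rw [lowSL_pow, CharP.cast_eq_zero, zero_mul, lowSL_zero], fun h => ?_⟩
  rcases KleinPSL.pi_eq_one.1 h with e | e
  · exact ha (by simpa [coe_lowSL] using congrArg (fun M : SL(2, F) => (M : Matrix (Fin 2) (Fin 2) F) 1 0) e)
  · exact ha (by simpa [coe_lowSL] using congrArg (fun M : SL(2, F) => (M : Matrix (Fin 2) (Fin 2) F) 1 0) e)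

/-- The conjugate `γ (1 + c E₁₂) γ⁻¹`. -/
theorem conj_uni_apply (γ : GL (Fin 2) F) (c : F) (i j : Fin 2) :
    ((γ * SpecialLinearGroup.toGL (uniSL c) * γ⁻¹ : GL (Fin 2) F) : Matrix (Fin 2) (Fin 2) F) i j =
      (1 : Matrix (Fin 2) (Fin 2) F) i j +
        c * ((γ : Matrix (Fin 2) (Fin 2) F) i 0 * ((γ⁻¹ : GL (Fin 2) F) : Matrix (Fin 2) (Fin 2) F) 1 j) := by
  have e : (SpecialLinearGroup.toGL (uniSL c) : Matrix (Fin 2) (Fin 2) F) = 1 + Matrix.single 0 1 c := by
    show (uniSL c : Matrix (Fin 2) (Fin 2) F) = _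
    rw [coe_uniSL]; ext a b; fin_cases a <;> fin_cases b <;> simp [Matrix.single]
  rw [Units.val_mul, Units.val_mul, e, mul_add, mul_one, add_mul, ← Units.val_mul, mul_inv_cancel,
    Units.val_one, Matrix.add_apply]
  congr 1
  simp [Matrix.mul_apply, Fin.sum_univ_two, Matrix.single]
  ring

/-- The conjugate `γ (1 + c E₂₁) γ⁻¹`. -/
theorem conj_low_apply (γ : GL (Fin 2) F) (c : F) (i j : Fin 2) :
    ((γ * SpecialLinearGroup.toGL (lowSL c) * γ⁻¹ : GL (Fin 2) F) : Matrix (Fin 2) (Fin 2) F) i j =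
      (1 : Matrix (Fin 2) (Fin 2) F) i j +
        c * ((γ : Matrix (Fin 2) (Fin 2) F) i 1 * ((γ⁻¹ : GL (Fin 2) F) : Matrix (Fin 2) (Fin 2) F) 0 j) := by
  have e : (SpecialLinearGroup.toGL (lowSL c) : Matrix (Fin 2) (Fin 2) F) = 1 + Matrix.single 1 0 c := by
    show (lowSL c : Matrix (Fin 2) (Fin 2) F) = _
    rw [coe_lowSL]; ext a b; fin_cases a <;> fin_cases b <;> simp [Matrix.single]
  rw [Units.val_mul, Units.val_mul, e, mul_add, mul_one, add_mul, ← Units.val_mul, mul_inv_cancel,
    Units.val_one, Matrix.add_apply]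
  congr 1
  simp [Matrix.mul_apply, Fin.sum_univ_two, Matrix.single]
  ring

theorem exists_ne_zero_entry (γ : GL (Fin 2) F) (a b : Fin 2) :
    ∃ i j, (γ : Matrix (Fin 2) (Fin 2) F) i a * ((γ⁻¹ : GL (Fin 2) F) : Matrix (Fin 2) (Fin 2) F) b j ≠ 0 := by
  obtain ⟨i, hi⟩ : ∃ i, (γ : Matrix (Fin 2) (Fin 2) F) i a ≠ 0 := by
    by_contra h
    push Not at h
    have h1 : ((γ⁻¹ : GL (Fin 2) F) : Matrix (Fin 2) (Fin 2) F) * γ = 1 := by
      rw [← Units.val_mul, inv_mul_cancel, Units.val_one]
    have h2 := congrFun (congrFun h1 a) a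
    simp only [Matrix.mul_apply, h, mul_zero, zero_mul, Finset.sum_const_zero, Matrix.one_apply_eq] at h2
    exact zero_ne_one h2
  obtain ⟨j, hj⟩ : ∃ j, ((γ⁻¹ : GL (Fin 2) F) : Matrix (Fin 2) (Fin 2) F) b j ≠ 0 := by
    by_contra h
    push Not at h
    have h1 : ((γ⁻¹ : GL (Fin 2) F) : Matrix (Fin 2) (Fin 2) F) * γ = 1 := by
      rw [← Units.val_mul, inv_mul_cancel, Units.val_one]
    have h2 := congrFun (congrFun h1 b) b
    simp only [Matrix.mul_apply, h, mul_zero, zero_mul, Finset.sum_const_zero, Matrix.one_apply_eq] at h2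
    exact zero_ne_one h2
  exact ⟨i, j, mul_ne_zero hi hj⟩

variable {S}

theorem alt5_orders : ∀ g : alternatingGroup (Fin 5), g ^ 2 = 1 ∨ g ^ 3 = 1 ∨ g ^ 5 = 1 := by
  decide +kernel

theorem card_le_three {H : Type*} [Group H] [Finite H] (e : H ≃* alternatingGroup (Fin 5)) {L : Subgroup H}
    (hL : ∀ x ∈ L, x ^ 3 = 1) : Nat.card L ≤ 3 := by
  have hpg : IsPGroup 3 L := fun x => ⟨1, by rw [pow_one]; exact Subtype.ext (hL x x.2)⟩
  haveI : Fact (Nat.Prime 3) := ⟨Nat.prime_three⟩
  obtain ⟨k, hk⟩ := IsPGroup.iff_card.1 hpg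
  have h60 : Nat.card H = 60 := by
    rw [Nat.card_congr e.toEquiv, nat_card_alternatingGroup, Nat.card_fin]
    rfl
  have hd := Subgroup.card_subgroup_dvd_card L
  rw [h60, hk] at hd
  rw [hk]
  rcases k with _ | _ | k
  · norm_num
  · norm_num
  · exfalso
    have : 9 ∣ 60 := (dvd_trans (by norm_num : (9 : ℕ) ∣ 3 ^ 2) (pow_dvd_pow 3 (by omega))).trans hd
    omega

/-- In the icosahedral case there are three parameters. -/
theorem three_params (h3 : p = 3) (e : ↥(S.map (KleinPSL.pi F)) ≃* alternatingGroup (Fin 5))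
    (φ : Multiplicative F →* SL(2, F))
    (hinj : ∀ x, KleinPSL.pi F (φ x) = 1 → x = 1) {a : F} (ha : a ≠ 0)
    (hmem : φ (Multiplicative.ofAdd a) ∈ S) {c : F} (hc : φ (Multiplicative.ofAdd c) ∈ S) :
    c = 0 ∨ c = a ∨ c = -a := by
  subst h3
  classical
  let P := (S.comap φ).map ((KleinPSL.pi F).comp φ)
  let L : Subgroup ↥(S.map (KleinPSL.pi F)) := P.subgroupOf _
  have hle : P ≤ S.map (KleinPSL.pi F) := by
    rintro _ ⟨x, hx, rfl⟩
    exact ⟨_, hx, rfl⟩
  have hL : ∀ x ∈ L, x ^ 3 = 1 := by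
    rintro ⟨v, hx⟩ ⟨y, hy, hy'⟩
    refine Subtype.ext ?_
    have : y ^ 3 = 1 := by
      apply Multiplicative.toAdd.injective
      show (3 : ℕ) • y.toAdd = 0
      rw [nsmul_eq_mul, CharP.cast_eq_zero, zero_mul]
    have hv : ((KleinPSL.pi F).comp φ) y = v := hy'
    show v ^ 3 = 1
    rw [← hv, ← map_pow, this, map_one]
  have h1 := card_le_three e hL
  rw [Nat.card_congr (Subgroup.subgroupOfEquivOfLe hle).toEquiv,
    Subgroup.card_map_of_injective (f := (KleinPSL.pi F).comp φ)
      ((injective_iff_map_eq_one _).2 fun x hx => hinj x hx)] at h1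
  by_contra hne
  push Not at hne
  obtain ⟨hc0, hca, hcna⟩ := hne
  have hna : a ≠ -a := fun h => by
    have h2 : (2 : F) * a = 0 := by linear_combination h
    exact ha ((mul_eq_zero.1 h2).resolve_left (two_ne (p := 3) (by norm_num)))
  let T0 : Finset F := {0, a, -a, c}
  let T : Finset (Multiplicative F) := T0.map Multiplicative.ofAdd.toEmbedding
  have hT : (T : Set (Multiplicative F)) ⊆ (S.comap φ : Set (Multiplicative F)) := by
    intro x hx
    obtain ⟨y, hy, rfl⟩ := Finset.mem_map.1 (Finset.mem_coe.1 hx)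
    simp only [T0, Finset.mem_insert, Finset.mem_singleton] at hy
    rcases hy with rfl | rfl | rfl | rfl
    · exact one_mem _
    · exact hmem
    · exact inv_mem (show Multiplicative.ofAdd a ∈ S.comap φ from hmem)
    · exact hc
  have h4 : T.card = 4 := by
    rw [Finset.card_map]
    simp [T0, ha.symm, (neg_ne_zero.2 ha).symm, hc0.symm, hna, hca.symm, hcna.symm]
  have h5 := Set.ncard_le_ncard hT (Set.toFinite _)
  rw [Set.ncard_coe_finset, h4, ← Nat.card_coe_set_eq] at h5
  exact absurd (le_trans h5 h1) (by norm_num)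

/-- Two root groups in a plane. -/
theorem classify (hp2 : p ≠ 2) {lam : F} (hlam : lam ≠ 0) (h1 : uniSL (1 : F) ∈ S) (hl : lowSL lam ∈ S) :
    (∃ K : Subfield F, lam ∈ K ∧ (∀ c : F, uniSL c ∈ S ↔ c ∈ K) ∧ ∀ c : F, lowSL c ∈ S ↔ c ∈ K) ∨
      p = 3 ∧ lam ^ 2 = -1 ∧ (∀ c : F, uniSL c ∈ S → c = 0 ∨ c = 1 ∨ c = -1) ∧
        ∀ c : F, lowSL c ∈ S → c = 0 ∨ c = lam ∨ c = -lam := by
  classical
  set H := S.map (KleinPSL.pi F) with hHdef
  have hT := DicksonAction.twoPt (F := F) p
  have hTH := hT.subgroup H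
  obtain ⟨hu, hu1⟩ := order_uni (F := F) (one_ne_zero) hp2
  obtain ⟨hl', hl1⟩ := order_low (F := F) hlam hp2
  let u : H := ⟨KleinPSL.pi F (uniSL 1), _, h1, rfl⟩
  let l : H := ⟨KleinPSL.pi F (lowSL lam), _, hl, rfl⟩
  have hou : orderOf (KleinPSL.pi F (uniSL (1 : F))) = p :=
    orderOf_eq_prime (by rw [← map_pow, hu, map_one]) hu1
  have hu' : orderOf u = p := by rw [← Subgroup.orderOf_coe]; exact hou
  rcases DicksonModular.classify_modular hTH hu' with ⟨x, -, hfix⟩ | ⟨c, -, hc, ⟨e⟩⟩ | ⟨h3, ⟨e⟩⟩ | ⟨x, htr⟩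
  · exfalso
    have hinf : KleinPSL.pi F (uniSL (1 : F)) • (OnePoint.infty : OnePoint (AlgebraicClosure F)) =
        OnePoint.infty := (DicksonAction.smul_infty_iff _).2 (by simp [coe_uniSL])
    have hx : x = OnePoint.infty := hT.eq_of_fix hou hinf (hfix u)
    have := (DicksonAction.smul_infty_iff _).1 (hx ▸ hfix l)
    simp [coe_lowSL, hlam] at this
  · exfalso
    have hd : p ∣ Nat.card (DihedralGroup (orderOf c)) := by
      rw [← Nat.card_congr e.toEquiv]
      exact hu' ▸ orderOf_dvd_natCard u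
    rw [DihedralGroup.nat_card] at hd
    rcases (Nat.Prime.dvd_mul hp.out).1 hd with hd | hd
    · exact hp2 ((Nat.prime_dvd_prime_iff_eq hp.out Nat.prime_two).1 hd)
    · exact hc (hTH.orderOf_eq hd)
  · subst h3
    have h3' : (3 : F) = 0 := by
      have := CharP.cast_eq_zero F 3
      exact_mod_cast this
    let φu : Multiplicative F →* SL(2, F) :=
      MonoidHom.mk' (fun x => uniSL x.toAdd) fun x y => (uniSL_mul _ _).symm
    let φl : Multiplicative F →* SL(2, F) :=
      MonoidHom.mk' (fun x => lowSL x.toAdd) fun x y => (lowSL_mul _ _).symm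
    have hiu : ∀ x, KleinPSL.pi F (φu x) = 1 → x = 1 := fun x hx => by
      by_contra hne
      exact (order_uni (p := 3) (F := F) (a := x.toAdd) (fun h => hne h) hp2).2 hx
    have hil : ∀ x, KleinPSL.pi F (φl x) = 1 → x = 1 := fun x hx => by
      by_contra hne
      exact (order_low (p := 3) (F := F) (a := x.toAdd) (fun h => hne h) hp2).2 hx
    have hA : ∀ c : F, uniSL c ∈ S → c = 0 ∨ c = 1 ∨ c = -1 := fun c hc =>
      three_params rfl e φu hiu one_ne_zero h1 hc
    have hB : ∀ c : F, lowSL c ∈ S → c = 0 ∨ c = lam ∨ c = -lam := fun c hc =>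
      three_params rfl e φl hil hlam hl hc
    -- traces
    have htr : ∀ t : F, uniSL t ∈ S → (2 + t * lam = 0 ∨ (2 + t * lam) ^ 2 = 4) ∨
        (2 + t * lam) ^ 4 - 3 * (2 + t * lam) ^ 2 + 1 = 0 := by
      intro t ht
      set X := uniSL t * lowSL lam with hXdef
      have hX : (X : Matrix (Fin 2) (Fin 2) F).trace = 2 + t * lam := by
        rw [hXdef, Matrix.SpecialLinearGroup.coe_mul, coe_uniSL, coe_lowSL, Matrix.mul_fin_two,
          Matrix.trace_fin_two]
        simp; ring
      have hm : KleinPSL.pi F X ∈ H := ⟨X, mul_mem ht hl, rfl⟩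
      have hpow : ∀ n : ℕ, e ⟨_, hm⟩ ^ n = 1 → KleinPSL.pi F X ^ n = 1 := by
        intro n h
        rw [← map_pow, ← map_one e] at h
        exact congrArg Subtype.val (e.injective h)
      rw [← hX]
      rcases alt5_orders (e ⟨_, hm⟩) with h | h | h
      · exact Or.inl (DicksonTrace.trace_two 3 X (hpow 2 h))
      · exact Or.inl (Or.inr (DicksonTrace.trace_char 3 X (hpow 3 h)))
      · rcases DicksonTrace.trace_five 3 X (hpow 5 h) with h' | h'
        · exact Or.inl (Or.inr h')
        · exact Or.inr h'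
    have small : ∀ s : F, s ≠ 0 → ((2 + s = 0 ∨ (2 + s) ^ 2 = 4) → s = 1 ∨ s = -1) := by
      intro s hs h
      rcases h with h | h
      · left; linear_combination h - h3'
      · right
        have : s * (4 + s) = 0 := by linear_combination h
        linear_combination (mul_eq_zero.1 this).resolve_left hs - h3'
    have hcases : lam = 1 ∨ lam = -1 ∨ lam ^ 2 = -1 := by
      rcases htr 1 h1 with a | a
      · rcases small lam hlam (by simpa using a) with r | r
        exacts [Or.inl r, Or.inr (Or.inl r)]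
      rcases htr (-1) (by
        have : uniSL (-1 : F) = (uniSL (1 : F))⁻¹ := (Classical.GL2.uniSL_inv 1).symm
        rw [this]; exact inv_mem h1) with b | b
      · rcases small (-lam) (neg_ne_zero.2 hlam) (by simpa using b) with r | r
        · exact Or.inr (Or.inl (by linear_combination -r))
        · exact Or.inl (by linear_combination -r)
      · refine Or.inr (Or.inr ?_)
        have : (16 * lam) * (lam ^ 2 + 1) = 0 := by
          linear_combination a - b - (8 * lam) * h3'
        have h16 : (16 : F) * lam ≠ 0 := mul_ne_zero (fun h => one_ne_zero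
          (show (1 : F) = 0 by linear_combination h - 5 * h3')) hlam
        linear_combination (mul_eq_zero.1 this).resolve_left h16
    have prime_field : (lam = 1 ∨ lam = -1) →
        (∃ K : Subfield F, lam ∈ K ∧ (∀ c : F, uniSL c ∈ S ↔ c ∈ K) ∧ ∀ c : F, lowSL c ∈ S ↔ c ∈ K) := by
      intro hl2
      haveI : CharP (⊥ : Subfield F) 3 := ((⊥ : Subfield F).subtype.charP_iff_charP 3).2 inferInstance
      have hbot : ∀ c : F, c ∈ (⊥ : Subfield F) ↔ c = 0 ∨ c = 1 ∨ c = -1 := by
        intro c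
        constructor
        · intro hc
          have hle : (⊥ : Subfield F) ≤ (ZMod.castHom (dvd_refl 3) F).fieldRange := bot_le
          obtain ⟨z, rfl⟩ := hle hc
          fin_cases z
          · exact Or.inl (map_zero _)
          · exact Or.inr (Or.inl (map_one _))
          · right; right
            show (ZMod.castHom (dvd_refl 3) F) 2 = -1
            rw [map_ofNat]; linear_combination h3'
        · rintro (rfl | rfl | rfl) <;> simp [neg_mem]
      refine ⟨⊥, (hbot lam).2 (Or.inr hl2), fun c => ⟨fun h => (hbot c).2 (hA c h), fun h => ?_⟩,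
        fun c => ⟨fun h => (hbot c).2 ?_, fun h => ?_⟩⟩
      · rcases (hbot c).1 h with rfl | rfl | rfl
        · rw [uniSL_zero]; exact one_mem _
        · exact h1
        · rw [← Classical.GL2.uniSL_inv]; exact inv_mem h1
      · rcases hB c h with rfl | rfl | rfl
        · exact Or.inl rfl
        · exact Or.inr hl2
        · rcases hl2 with r | r <;> rw [r] <;> simp
      · have hnl : lowSL (-lam) ∈ S := by
          rw [show lowSL (-lam) = (lowSL lam)⁻¹ from (inv_eq_of_mul_eq_one_right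
            (by rw [lowSL_mul, add_neg_cancel, lowSL_zero])).symm]
          exact inv_mem hl
        rcases (hbot c).1 h with rfl | rfl | rfl
        · rw [lowSL_zero]; exact one_mem _
        · rcases hl2 with r | r
          · rwa [r] at hl
          · rwa [r, neg_neg] at hnl
        · rcases hl2 with r | r
          · rwa [r] at hnl
          · rwa [r] at hl
    rcases hcases with r | r | r
    · exact Or.inl (prime_field (Or.inl r))
    · exact Or.inl (prime_field (Or.inr r))
    · exact Or.inr ⟨rfl, r, hA, hB⟩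
  · -- the subfield case
    left
    obtain ⟨K, iK, fK, m, f, γ, -, hlo, hhi⟩ := DicksonField.transitive_embedding p H htr
    let K' : Subfield F := f.fieldRange
    -- rationality up to a scalar
    have hrat : ∀ X : SL(2, F), X ∈ S → (X : Matrix (Fin 2) (Fin 2) F).trace ≠ 0 →
        (X : Matrix (Fin 2) (Fin 2) F).trace ∈ K' →
        ∀ i j, ((γ * SpecialLinearGroup.toGL X * γ⁻¹ : GL (Fin 2) F) : Matrix (Fin 2) (Fin 2) F) i j ∈ K' := by
      intro X hX htr0 htrK i j
      have hm : ProjGenLinGroup.mk (γ * SpecialLinearGroup.toGL X * γ⁻¹) ∈ (DicksonField.pglMap f).range := by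
        refine hhi ⟨_, ⟨_, ⟨X, hX, rfl⟩, rfl⟩, ?_⟩
        simp [KleinPSL.pi]
      obtain ⟨M, hM⟩ := hm
      obtain ⟨M, rfl⟩ := ProjGenLinGroup.mk_surjective M
      rw [DicksonField.pglMap_mk] at hM
      obtain ⟨r, hr0, hr⟩ := exists_smul_of_mk_eq hM
      have htrace : ((γ * SpecialLinearGroup.toGL X * γ⁻¹ : GL (Fin 2) F) : Matrix (Fin 2) (Fin 2) F).trace =
          (X : Matrix (Fin 2) (Fin 2) F).trace := by
        rw [Units.val_mul, Units.val_mul, Matrix.trace_units_conj]
        rfl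
      rw [hr, Matrix.trace_smul, smul_eq_mul] at htrace
      have hMtr : (GeneralLinearGroup.map f M : Matrix (Fin 2) (Fin 2) F).trace ∈ K' := by
        rw [Matrix.trace_fin_two]
        exact add_mem ⟨_, rfl⟩ ⟨_, rfl⟩
      have hne : (GeneralLinearGroup.map f M : Matrix (Fin 2) (Fin 2) F).trace ≠ 0 := fun h => by
        rw [h, mul_zero] at htrace; exact htr0 htrace.symm
      have hrK : r ∈ K' := by
        rw [← eq_div_iff hne] at htrace
        rw [htrace]; exact K'.div_mem htrK hMtr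
      rw [hr, Matrix.smul_apply, smul_eq_mul]
      exact mul_mem hrK ⟨_, rfl⟩
    have h2 := two_ne (F := F) hp2
    have huK : ∀ c : F, uniSL c ∈ S → ∀ i j,
        c * ((γ : Matrix (Fin 2) (Fin 2) F) i 0 * ((γ⁻¹ : GL (Fin 2) F) : Matrix (Fin 2) (Fin 2) F) 1 j) ∈ K' := by
      intro c hc i j
      have htr2 : (uniSL c : Matrix (Fin 2) (Fin 2) F).trace = 2 := by
        simp [coe_uniSL, Matrix.trace_fin_two]; norm_num
      have := hrat _ hc (by rw [htr2]; exact h2) (by rw [htr2]; exact ofNat_mem K' 2) i j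
      rw [conj_uni_apply] at this
      have h1' : (1 : Matrix (Fin 2) (Fin 2) F) i j ∈ K' := by
        rw [Matrix.one_apply]; split_ifs <;> simp
      simpa using sub_mem this h1'
    have hlK : ∀ c : F, lowSL c ∈ S → ∀ i j,
        c * ((γ : Matrix (Fin 2) (Fin 2) F) i 1 * ((γ⁻¹ : GL (Fin 2) F) : Matrix (Fin 2) (Fin 2) F) 0 j) ∈ K' := by
      intro c hc i j
      have htr2 : (lowSL c : Matrix (Fin 2) (Fin 2) F).trace = 2 := by
        simp [coe_lowSL, Matrix.trace_fin_two]; norm_num
      have := hrat _ hc (by rw [htr2]; exact h2) (by rw [htr2]; exact ofNat_mem K' 2) i j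
      rw [conj_low_apply] at this
      have h1' : (1 : Matrix (Fin 2) (Fin 2) F) i j ∈ K' := by
        rw [Matrix.one_apply]; split_ifs <;> simp
      simpa using sub_mem this h1'
    obtain ⟨i, j, hij⟩ := exists_ne_zero_entry γ 0 1
    obtain ⟨i', j', hij'⟩ := exists_ne_zero_entry γ 1 0
    have hlamK : lam ∈ K' := by
      have hU : ∀ a b, ((γ * SpecialLinearGroup.toGL (uniSL (1 : F)) * γ⁻¹ : GL (Fin 2) F) :
          Matrix (Fin 2) (Fin 2) F) a b ∈ K' := fun a b => by
        rw [conj_uni_apply]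
        exact add_mem (by rw [Matrix.one_apply]; split_ifs <;> simp) (huK 1 h1 a b)
      have hL : ∀ a b, ((γ * SpecialLinearGroup.toGL (lowSL lam) * γ⁻¹ : GL (Fin 2) F) :
          Matrix (Fin 2) (Fin 2) F) a b ∈ K' := fun a b => by
        rw [conj_low_apply]
        exact add_mem (by rw [Matrix.one_apply]; split_ifs <;> simp) (hlK lam hl a b)
      have htr : (((γ * SpecialLinearGroup.toGL (uniSL (1 : F)) * γ⁻¹) *
          (γ * SpecialLinearGroup.toGL (lowSL lam) * γ⁻¹) : GL (Fin 2) F) :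
          Matrix (Fin 2) (Fin 2) F).trace ∈ K' := by
        rw [Units.val_mul, Matrix.trace_fin_two]
        refine add_mem ?_ ?_ <;> rw [Matrix.mul_apply, Fin.sum_univ_two] <;>
          exact add_mem (mul_mem (hU _ _) (hL _ _)) (mul_mem (hU _ _) (hL _ _))
      rw [show (γ * SpecialLinearGroup.toGL (uniSL (1 : F)) * γ⁻¹) *
          (γ * SpecialLinearGroup.toGL (lowSL lam) * γ⁻¹) =
          γ * (SpecialLinearGroup.toGL (uniSL (1 : F)) * SpecialLinearGroup.toGL (lowSL lam)) * γ⁻¹ by group,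
        Units.val_mul, Units.val_mul, Matrix.trace_units_conj] at htr
      have e2 : ((SpecialLinearGroup.toGL (uniSL (1 : F)) * SpecialLinearGroup.toGL (lowSL lam) : GL (Fin 2) F) :
          Matrix (Fin 2) (Fin 2) F).trace = 2 + lam := by
        show ((uniSL (1 : F) : Matrix (Fin 2) (Fin 2) F) * (lowSL lam : Matrix (Fin 2) (Fin 2) F)).trace = _
        rw [coe_uniSL, coe_lowSL, Matrix.mul_fin_two, Matrix.trace_fin_two]
        simp; ring
      rw [e2] at htr
      simpa using sub_mem htr (ofNat_mem K' 2)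
    have hback : ∀ X : SL(2, F), X ^ p = 1 →
        (∀ a b, ((γ * SpecialLinearGroup.toGL X * γ⁻¹ : GL (Fin 2) F) : Matrix (Fin 2) (Fin 2) F) a b ∈ K') →
        X ∈ S := by
      intro X hXp hK
      choose M hM using fun a b => hK a b
      have hMX : (Matrix.of M).map f =
          ((γ * SpecialLinearGroup.toGL X * γ⁻¹ : GL (Fin 2) F) : Matrix (Fin 2) (Fin 2) F) := by
        ext a b; exact hM a b
      have hdet : (Matrix.of M).det = 1 := f.injective (by
        rw [RingHom.map_det, RingHom.mapMatrix_apply, hMX, map_one, Units.val_mul, Units.val_mul,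
          Matrix.det_units_conj]
        exact X.2)
      refine mem_of_pi_mem hp2 hXp ?_
      let M0 : SpecialLinearGroup (Fin 2) K := ⟨Matrix.of M, hdet⟩
      obtain ⟨_, ⟨z, hz, rfl⟩, hz'⟩ := hlo ⟨_, ⟨QuotientGroup.mk M0, rfl⟩, rfl⟩
      have e2 : DicksonField.pglMap f (Matrix.ProjectiveSpecialLinearGroup.toPGL
          (QuotientGroup.mk M0)) =
          ProjGenLinGroup.mk (γ * SpecialLinearGroup.toGL X * γ⁻¹) := by
        rw [Matrix.ProjectiveSpecialLinearGroup.toPGL_mk, DicksonField.pglMap_mk]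
        exact congrArg _ (Units.ext hMX)
      rw [e2, map_mul, map_mul, map_inv] at hz'
      have e3 : Matrix.ProjectiveSpecialLinearGroup.toPGL z =
          Matrix.ProjectiveSpecialLinearGroup.toPGL (KleinPSL.pi F X) := by
        have h4 : Matrix.ProjectiveSpecialLinearGroup.toPGL (KleinPSL.pi F X) =
            ProjGenLinGroup.mk (SpecialLinearGroup.toGL X) := Matrix.ProjectiveSpecialLinearGroup.toPGL_mk _
        rw [h4]
        exact (MulAut.conj (ProjGenLinGroup.mk γ)).injective (by simpa using hz')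
      exact Matrix.ProjectiveSpecialLinearGroup.toPGL_injective e3 ▸ hz
    refine ⟨K', hlamK, fun c => ⟨fun hc => ?_, fun hc => ?_⟩, fun c => ⟨fun hc => ?_, fun hc => ?_⟩⟩
    · have h5 := K'.div_mem (huK c hc i j) (huK 1 h1 i j)
      rwa [one_mul, mul_div_cancel_right₀ _ hij] at h5
    · refine hback _ (by rw [uniSL_pow, CharP.cast_eq_zero, zero_mul, uniSL_zero]) fun a b => ?_
      rw [conj_uni_apply]
      refine add_mem (by rw [Matrix.one_apply]; split_ifs <;> simp) (mul_mem hc ?_)
      simpa using huK 1 h1 a b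
    · have h5 := mul_mem hlamK (K'.div_mem (hlK c hc i' j') (hlK lam hl i' j'))
      rwa [mul_div_mul_right _ _ hij', mul_div_cancel₀ _ hlam] at h5
    · refine hback _ (by rw [lowSL_pow, CharP.cast_eq_zero, zero_mul, lowSL_zero]) fun a b => ?_
      rw [conj_low_apply]
      refine add_mem (by rw [Matrix.one_apply]; split_ifs <;> simp) ?_
      have := mul_mem (K'.div_mem hc hlamK) (hlK lam hl a b)
      rwa [← mul_assoc, div_mul_cancel₀ _ hlam] at this

end Cfsg.Agent.PSLThree.Trans.Plane
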