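import Mathlib
import Cfsg.Agent.Lib.PSLThree.Defs
import Cfsg.Agent.Lib.Forms.Max.SL3.Singer.Thin
import Cfsg.Agent.Lib.PSLThree.Trans.Icosa
import Cfsg.Agent.Lib.PSLThree.Trans.Plane

/-!
# Root groups of an irreducible group with transvections

Two transvections in general position have their root parameters in a subfield.
-/

set_option autoImplicit false
set_option linter.unusedSectionVars false

namespace Cfsg.Agent.PSLThree.Trans

open Matrix Cfsg.Agent.Forms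
open Cfsg.Agent.Forms.Max.SL3.Singer
open Cfsg.Agent.Classical.GL2 (uniSL lowSL coe_uniSL coe_lowSL)
open scoped MatrixGroups

variable {F : Type*} [Field F] [Fintype F]

local notation "Mat" => Matrix (Fin 3) (Fin 3) F
local notation "Vec" => (Fin 3 → F)
local notation "GL3" => GL (Fin 3) F

variable {P : Subgroup (GL (Fin 3) F)} {u φ w ψ : Fin 3 → F}

theorem tr_zero (u : Vec) : Tr P u 0 :=
  ⟨zero_dotProduct u, 1, one_mem P, fun x => by
    rw [Units.val_one, one_mulVec, zero_dotProduct, zero_smul, add_zero]⟩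

theorem tr_neg (h : Tr P u φ) : Tr P u (-φ) := by
  obtain ⟨h0, m, hm, e⟩ := h
  refine ⟨by rw [neg_dotProduct, h0, neg_zero], m⁻¹, inv_mem hm, fun x => ?_⟩
  refine Max.mulVec_inj m ?_
  rw [Max.mulVec_inv_cancel, e, neg_dotProduct, neg_smul, dotProduct_add, dotProduct_neg, dotProduct_smul, h0,
    smul_zero, neg_zero, add_zero, neg_add_cancel_right]

/-- Irreducibility in the form used here. -/
theorem eq_bot_or_top (hirr : Cfsg.Geo.ActsIrreducibly (Cfsg.Geo.matrixSet P)) {W : Submodule F Vec}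
    (h : ∀ g ∈ P, ∀ x ∈ W, (g : Mat) *ᵥ x ∈ W) : W = ⊥ ∨ W = ⊤ := by
  refine hirr W ?_
  rintro _ ⟨g, hg, rfl⟩ _ ⟨x, hx, rfl⟩
  simpa [Matrix.toLin'_apply] using h g hg x hx

theorem axis_ne_zero {g : GL3} (hφ : φ ≠ 0) : φ ᵥ* ((g⁻¹ : GL3) : Mat) ≠ 0 := fun e => hφ (by
  have := congrArg (fun v => v ᵥ* (g : Mat)) e
  simpa [Matrix.vecMul_vecMul] using this)

theorem exists_conj_moved (hirr : Cfsg.Geo.ActsIrreducibly (Cfsg.Geo.matrixSet P)) (hu : u ≠ 0)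
    (hφ : φ ≠ 0) : ∃ g ∈ P, φ ⬝ᵥ ((g : Mat) *ᵥ u) ≠ 0 := by
  by_contra hc
  push Not at hc
  let W : Submodule F Vec :=
    { carrier := {x | ∀ g ∈ P, φ ⬝ᵥ ((g : Mat) *ᵥ x) = 0}
      add_mem' := fun {x y} hx hy g hg => by rw [mulVec_add, dotProduct_add, hx g hg, hy g hg, add_zero]
      zero_mem' := fun g _ => by rw [mulVec_zero, dotProduct_zero]
      smul_mem' := fun c x hx g hg => by rw [mulVec_smul, dotProduct_smul, hx g hg, smul_zero] }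
  rcases eq_bot_or_top hirr (W := W) fun g hg x hx g' hg' => by
      rw [← Max.mulVec_mul_GL]; exact hx _ (mul_mem hg' hg) with e | e
  · have : u ∈ W := hc
    rw [e, Submodule.mem_bot] at this
    exact hu this
  · refine hφ (funext fun i => ?_)
    have : Pi.single i 1 ∈ W := e ▸ Submodule.mem_top
    have h1 := this 1 (one_mem P)
    rwa [Units.val_one, one_mulVec, dotProduct_single_one] at h1

/-- Two transvections in general position. -/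
theorem exists_pair (hirr : Cfsg.Geo.ActsIrreducibly (Cfsg.Geo.matrixSet P)) (ht : HasTrv P) :
    ∃ u φ w ψ : Vec, Tr P u φ ∧ Tr P w ψ ∧ φ ⬝ᵥ w ≠ 0 ∧ ψ ⬝ᵥ u ≠ 0 := by
  obtain ⟨u, φ, hu, hφ, h⟩ := ht
  obtain ⟨g, hg, hgu⟩ := exists_conj_moved hirr hu hφ
  have hw := h.conj hg
  set w := (g : Mat) *ᵥ u
  set ψ := φ ᵥ* ((g⁻¹ : GL3) : Mat)
  by_cases h0 : ψ ⬝ᵥ u = 0
  swap
  · exact ⟨u, φ, w, ψ, h, hw, hgu, h0⟩
  have hψ : Tr P u ((φ ⬝ᵥ w) • ψ) := h.comm hw h0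
  -- `h0` says that `φ` vanishes at the inverse image
  have hne : φ ⬝ᵥ (((g⁻¹ : GL3) : Mat) *ᵥ u) = 0 := by rwa [dotProduct_mulVec]
  by_cases hn : ((φ ⬝ᵥ w) • ψ) ⬝ᵥ (((g⁻¹ : GL3) : Mat) *ᵥ u) = 0
  swap
  · refine ⟨u, φ, w, ((φ ⬝ᵥ w) • ψ) ᵥ* ((g⁻¹ : GL3) : Mat), h, hψ.conj hg, hgu, ?_⟩
    rwa [← dotProduct_mulVec]
  exfalso
  rw [smul_dotProduct, smul_eq_mul, mul_eq_zero] at hn
  have hψv : ψ ⬝ᵥ (((g⁻¹ : GL3) : Mat) *ᵥ u) = 0 := hn.resolve_left hgu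
  have hψw : ψ ⬝ᵥ w = 0 := hw.1
  -- `u` and its inverse image both lie on two independent axes
  set v := ((g⁻¹ : GL3) : Mat) *ᵥ u with hv
  have hgv : (g : Mat) *ᵥ v = u := Max.mulVec_inv_cancel g u
  by_cases hdep : ∃ c : F, v = c • u
  · obtain ⟨c, hc⟩ := hdep
    have hc0 : c ≠ 0 := fun e => Max.mulVec_ne_zero (g⁻¹) hu (by rw [← hv, hc, e, zero_smul])
    rw [hc, mulVec_smul] at hgv
    refine hgu ?_
    show φ ⬝ᵥ w = 0
    rw [show w = c⁻¹ • u by rw [← hgv, inv_smul_smul₀ hc0], dotProduct_smul, h.1, smul_zero]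
  push Not at hdep
  obtain ⟨c, hc⟩ := Max.SL3.Singer.Thin.prop_of_two hφ hu (fun c e => hdep c e) h.1 hne h0 hψv
  refine hgu ?_
  have hψ0 : ψ ≠ 0 := axis_ne_zero hφ
  have hc0 : c ≠ 0 := fun e => hψ0 (by rw [hc, e, zero_smul])
  rw [hc, smul_dotProduct, smul_eq_mul] at hψw
  exact (mul_eq_zero.1 hψw).resolve_left hc0

/-- The common zero of two axes. -/
theorem exists_common_zero (φ ψ : Vec) : ∃ z : Vec, z ≠ 0 ∧ φ ⬝ᵥ z = 0 ∧ ψ ⬝ᵥ z = 0 := by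
  let L : Vec →ₗ[F] (Fin 2 → F) :=
    { toFun := fun x => ![φ ⬝ᵥ x, ψ ⬝ᵥ x]
      map_add' := fun a b => by ext i; fin_cases i <;> simp [dotProduct_add]
      map_smul' := fun c a => by ext i; fin_cases i <;> simp [dotProduct_smul] }
  have h1 := LinearMap.finrank_range_add_finrank_ker L
  have h2 := Submodule.finrank_le (LinearMap.range L)
  rw [Module.finrank_fintype_fun_eq_card, Fintype.card_fin] at h1 h2
  obtain ⟨x, hx, hx0⟩ := Submodule.exists_mem_ne_zero_of_ne_bot (p := L.ker) fun e => by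
    rw [e, finrank_bot] at h1; omega
  exact ⟨x, hx0, by simpa [L] using congrFun hx 0, by simpa [L] using congrFun hx 1⟩

/-- A third transvection off the plane of two, whose axis misses their common fixed point. -/
theorem exists_third (hirr : Cfsg.Geo.ActsIrreducibly (Cfsg.Geo.matrixSet P)) (hu : Tr P u φ) (hw : Tr P w ψ)
    (h1 : φ ⬝ᵥ w ≠ 0) (h2 : ψ ⬝ᵥ u ≠ 0) {z : Vec} (hz : z ≠ 0) (hzφ : φ ⬝ᵥ z = 0) (hzψ : ψ ⬝ᵥ z = 0) :
    ∃ x c : Vec, Tr P x c ∧ c ⬝ᵥ z ≠ 0 ∧ ∀ s t : F, x ≠ s • u + t • w := by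
  have hu0 : u ≠ 0 := fun e => h2 (by rw [e, dotProduct_zero])
  have hφ0 : φ ≠ 0 := fun e => h1 (by rw [e, zero_dotProduct])
  -- some axis misses `z`
  obtain ⟨x₂, c₂, hx₂, hx₂0, hc₂⟩ : ∃ x c : Vec, Tr P x c ∧ x ≠ 0 ∧ c ⬝ᵥ z ≠ 0 := by
    by_contra hc
    push Not at hc
    let W : Submodule F Vec :=
      { carrier := {y | ∀ a α : Vec, Tr P a α → a ≠ 0 → α ⬝ᵥ y = 0}
        add_mem' := fun {x y} hx hy a α ht ha => by rw [dotProduct_add, hx a α ht ha, hy a α ht ha, add_zero]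
        zero_mem' := fun _ _ _ _ => dotProduct_zero _
        smul_mem' := fun c x hx a α ht ha => by rw [dotProduct_smul, hx a α ht ha, smul_zero] }
    rcases eq_bot_or_top hirr (W := W) fun g hg x hx a α ht ha => by
      have := hx _ _ (ht.conj (inv_mem hg)) (Max.mulVec_ne_zero _ ha)
      rwa [inv_inv, ← dotProduct_mulVec] at this with e | e
    · have : z ∈ W := fun a α ht ha => hc a α ht ha
      rw [e, Submodule.mem_bot] at this
      exact hz this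
    · refine hφ0 (funext fun i => ?_)
      have : Pi.single i 1 ∈ W := e ▸ Submodule.mem_top
      simpa using this u φ hu hu0
  by_cases hpl₂ : ∀ s t : F, x₂ ≠ s • u + t • w
  · exact ⟨x₂, c₂, hx₂, hc₂, hpl₂⟩
  push Not at hpl₂
  obtain ⟨s₂, t₂, hx₂e⟩ := hpl₂
  -- some centre is off the plane
  obtain ⟨x₁, c₁, hx₁, hc₁0, hpl₁⟩ : ∃ x c : Vec, Tr P x c ∧ c ≠ 0 ∧ ∀ s t : F, x ≠ s • u + t • w := by
    by_contra hc
    push Not at hc
    let W : Submodule F Vec := Submodule.span F {x | ∃ c : Vec, c ≠ 0 ∧ Tr P x c}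
    have hinv : ∀ g ∈ P, ∀ x ∈ W, (g : Mat) *ᵥ x ∈ W := by
      intro g hg x hx
      have hle : W ≤ W.comap (Matrix.toLin' (g : Mat)) := Submodule.span_le.2 fun y ⟨c, hc0, hy⟩ => by
        simp only [Submodule.comap_coe, Set.mem_preimage, SetLike.mem_coe, Matrix.toLin'_apply]
        exact Submodule.subset_span ⟨_, axis_ne_zero hc0, hy.conj hg⟩
      simpa [Matrix.toLin'_apply] using hle hx
    have hWle : W ≤ Submodule.span F {u, w} := Submodule.span_le.2 fun y ⟨c, hc0, hy⟩ => by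
      obtain ⟨s, t, e⟩ := hc y c hy hc0
      exact Submodule.mem_span_pair.2 ⟨s, t, e.symm⟩
    rcases eq_bot_or_top hirr hinv with e | e
    · have : u ∈ W := Submodule.subset_span ⟨φ, hφ0, hu⟩
      rw [e, Submodule.mem_bot] at this
      exact hu0 this
    · have hfr := Submodule.finrank_mono hWle
      rw [e, finrank_top, Module.finrank_fintype_fun_eq_card, Fintype.card_fin] at hfr
      classical
      have h4 : Module.finrank F (Submodule.span F (({u, w} : Finset Vec) : Set Vec)) ≤ 2 :=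
        (finrank_span_finset_le_card _).trans Finset.card_le_two
      rw [Finset.coe_pair] at h4
      omega
  by_cases hc₁z : c₁ ⬝ᵥ z ≠ 0
  · exact ⟨x₁, c₁, hx₁, hc₁z, hpl₁⟩
  push Not at hc₁z
  -- conjugate the first by a transvection centred in the plane
  have key : ∀ (x c : Vec) (s t : F), Tr P x c → x = s • u + t • w → c ⬝ᵥ z ≠ 0 → c₁ ⬝ᵥ x ≠ 0 →
      ∃ x' c' : Vec, Tr P x' c' ∧ c' ⬝ᵥ z ≠ 0 ∧ ∀ s t : F, x' ≠ s • u + t • w := by
    intro x c s t hx hxe hcz hcx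
    obtain ⟨hx0, m, hm, e⟩ := hx
    refine ⟨_, _, hx₁.conj hm, ?_, ?_⟩
    · have hmi : ((m⁻¹ : GL3) : Mat) *ᵥ z = z + (-(c ⬝ᵥ z)) • x := by
        refine Max.mulVec_inj m ?_
        rw [Max.mulVec_inv_cancel, e, dotProduct_add, dotProduct_smul, hx0, smul_zero, add_zero, neg_smul,
          neg_add_cancel_right]
      rw [← dotProduct_mulVec, hmi, dotProduct_add, dotProduct_smul, hc₁z, zero_add, smul_eq_mul]
      exact mul_ne_zero (neg_ne_zero.2 hcz) hcx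
    · intro s' t' h'
      rw [e, hxe] at h'
      refine hpl₁ (s' - (c ⬝ᵥ x₁) * s) (t' - (c ⬝ᵥ x₁) * t) ?_
      rw [sub_smul, sub_smul, sub_add_sub_comm, ← h', smul_add, smul_smul, smul_smul, add_sub_cancel_right]
  by_cases hd : c₁ ⬝ᵥ x₂ ≠ 0
  · exact key x₂ c₂ s₂ t₂ hx₂ hx₂e hc₂ hd
  push Not at hd
  -- move `x₂` inside the plane
  have hmove : ∀ (a α : Vec), Tr P a α → α ⬝ᵥ z = 0 →
      ∃ c : Vec, Tr P (x₂ + (α ⬝ᵥ x₂) • a) c ∧ c ⬝ᵥ z ≠ 0 := by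
    intro a α ha hαz
    obtain ⟨ha0, m, hm, e⟩ := ha
    refine ⟨c₂ ᵥ* ((m⁻¹ : GL3) : Mat), by rw [← e]; exact hx₂.conj hm, ?_⟩
    have hmz : ((m⁻¹ : GL3) : Mat) *ᵥ z = z := by
      refine Max.mulVec_inj m ?_
      rw [Max.mulVec_inv_cancel, e, hαz, zero_smul, add_zero]
    rwa [← dotProduct_mulVec, hmz]
  by_cases hA : (φ ⬝ᵥ x₂) * (c₁ ⬝ᵥ u) ≠ 0
  · obtain ⟨c, hc, hcz⟩ := hmove u φ hu hzφ
    refine key _ c (s₂ + φ ⬝ᵥ x₂) t₂ hc ?_ hcz ?_
    · rw [hx₂e]; module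
    · rwa [dotProduct_add, hd, zero_add, dotProduct_smul, smul_eq_mul]
  by_cases hB : (ψ ⬝ᵥ x₂) * (c₁ ⬝ᵥ w) ≠ 0
  · obtain ⟨c, hc, hcz⟩ := hmove w ψ hw hzψ
    refine key _ c s₂ (t₂ + ψ ⬝ᵥ x₂) hc ?_ hcz ?_
    · rw [hx₂e]; module
    · rwa [dotProduct_add, hd, zero_add, dotProduct_smul, smul_eq_mul]
  push Not at hA hB
  exfalso
  have e1 : φ ⬝ᵥ x₂ = t₂ * (φ ⬝ᵥ w) := by
    rw [hx₂e, dotProduct_add, dotProduct_smul, dotProduct_smul, hu.1, smul_zero, zero_add, smul_eq_mul]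
  have e2 : ψ ⬝ᵥ x₂ = s₂ * (ψ ⬝ᵥ u) := by
    rw [hx₂e, dotProduct_add, dotProduct_smul, dotProduct_smul, hw.1, smul_zero, add_zero, smul_eq_mul]
  have e3 : s₂ * (c₁ ⬝ᵥ u) + t₂ * (c₁ ⬝ᵥ w) = 0 := by
    rw [hx₂e, dotProduct_add, dotProduct_smul, dotProduct_smul] at hd; simpa using hd
  rw [e1] at hA
  rw [e2] at hB
  have hboth : c₁ ⬝ᵥ u = 0 ∧ c₁ ⬝ᵥ w = 0 := by
    rcases eq_or_ne t₂ 0 with ht | ht
    · have hs : s₂ ≠ 0 := fun hs => hx₂0 (by rw [hx₂e, hs, ht, zero_smul, zero_smul, add_zero])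
      rw [ht, zero_mul, add_zero] at e3
      exact ⟨(mul_eq_zero.1 e3).resolve_left hs, (mul_eq_zero.1 hB).resolve_left (mul_ne_zero hs h2)⟩
    · have hcu := (mul_eq_zero.1 hA).resolve_left (mul_ne_zero ht h1)
      rw [hcu, mul_zero, zero_add] at e3
      exact ⟨hcu, (mul_eq_zero.1 e3).resolve_left ht⟩
  -- `c₁` vanishes on a basis
  have hbas : LinearIndependent F ![u, w, z] := by
    rw [Fintype.linearIndependent_iff]
    intro g hg
    rw [Fin.sum_univ_three] at hg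
    simp only [Matrix.cons_val_zero, Matrix.cons_val_one, Matrix.cons_val] at hg
    have g1 := congrArg (fun y => φ ⬝ᵥ y) hg
    have g2 := congrArg (fun y => ψ ⬝ᵥ y) hg
    simp [dotProduct_add, dotProduct_smul, hu.1, hw.1, hzφ, hzψ, h1, h2] at g1 g2
    rw [g1, g2, zero_smul, zero_smul, zero_add, zero_add] at hg
    have g3 := (smul_eq_zero.1 hg).resolve_right hz
    intro i
    fin_cases i <;> assumption
  have htop := hbas.span_eq_top_of_card_eq_finrank (by simp)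
  refine hc₁0 (funext fun i => ?_)
  have hmem : (Pi.single i 1 : Vec) ∈ Submodule.span F (Set.range ![u, w, z]) := htop ▸ Submodule.mem_top
  obtain ⟨g, hg⟩ := Submodule.mem_span_range_iff_exists_fun F |>.1 hmem
  have := congrArg (fun y => c₁ ⬝ᵥ y) hg
  simpa [Fin.sum_univ_three, dotProduct_add, dotProduct_smul, hboth.1, hboth.2, hc₁z] using this.symm

/-! ### The plane of a pair -/

variable (u φ w ψ) in
/-- the matrix of an element of `SL₂` acting on the plane of the pair -/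
def planeMat (X : Matrix (Fin 2) (Fin 2) F) : Mat :=
  1 + vecMulVec u ((X 0 0 - 1) • ((ψ ⬝ᵥ u)⁻¹ • ψ) + X 0 1 • φ) +
    vecMulVec ((φ ⬝ᵥ w)⁻¹ • w) (X 1 0 • ((ψ ⬝ᵥ u)⁻¹ • ψ) + (X 1 1 - 1) • φ)

theorem planeMat_mulVec (X : Matrix (Fin 2) (Fin 2) F) (x : Vec) :
    planeMat u φ w ψ X *ᵥ x = x +
      ((X 0 0 - 1) * ((ψ ⬝ᵥ u)⁻¹ * (ψ ⬝ᵥ x)) + X 0 1 * (φ ⬝ᵥ x)) • u +
      ((X 1 0 * ((ψ ⬝ᵥ u)⁻¹ * (ψ ⬝ᵥ x)) + (X 1 1 - 1) * (φ ⬝ᵥ x)) * (φ ⬝ᵥ w)⁻¹) • w := by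
  simp only [planeMat, add_mulVec, one_mulVec, vecMulVec_mulVec, add_dotProduct, smul_dotProduct, smul_eq_mul,
    op_smul_eq_smul, smul_smul, mul_assoc]

/-- `SL₂` on the plane of the pair. -/
noncomputable def planeHom (h0 : φ ⬝ᵥ u = 0) (h0' : ψ ⬝ᵥ w = 0) (h1 : φ ⬝ᵥ w ≠ 0) (h2 : ψ ⬝ᵥ u ≠ 0) :
    SL(2, F) →* GL3 :=
  MonoidHom.toHomUnits
    { toFun := fun X => planeMat u φ w ψ X
      map_one' := by
        refine Matrix.ext_iff_mulVec.2 fun x => ?_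
        simp [planeMat_mulVec]
      map_mul' := fun X Y => by
        refine Matrix.ext_iff_mulVec.2 fun x => ?_
        rw [← mulVec_mulVec, planeMat_mulVec, planeMat_mulVec, planeMat_mulVec, Matrix.SpecialLinearGroup.coe_mul]
        simp only [dotProduct_add, dotProduct_smul, h0, h0', smul_eq_mul, mul_zero, add_zero, zero_add,
          Matrix.mul_apply, Fin.sum_univ_two]
        field_simp
        module }

theorem planeHom_mulVec (h0 : φ ⬝ᵥ u = 0) (h0' : ψ ⬝ᵥ w = 0) (h1 : φ ⬝ᵥ w ≠ 0) (h2 : ψ ⬝ᵥ u ≠ 0)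
    (X : SL(2, F)) (x : Vec) :
    (planeHom h0 h0' h1 h2 X : Mat) *ᵥ x = planeMat u φ w ψ X *ᵥ x := rfl

variable {p : ℕ} [Fact p.Prime] [CharP F p]

/-- root groups of the pair seen in the plane -/
theorem plane_tr (hu : Tr P u φ) (hw : Tr P w ψ) (h1 : φ ⬝ᵥ w ≠ 0) (h2 : ψ ⬝ᵥ u ≠ 0) :
    (∀ c : F, uniSL c ∈ P.comap (planeHom hu.1 hw.1 h1 h2) ↔ Tr P u (c • φ)) ∧
      ∀ c : F, lowSL (c * ((φ ⬝ᵥ w) * (ψ ⬝ᵥ u))) ∈ P.comap (planeHom hu.1 hw.1 h1 h2) ↔ Tr P w (c • ψ) := by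
  have htr : ∀ (g : GL3) (a α : Vec), α ⬝ᵥ a = 0 → (∀ x, (g : Mat) *ᵥ x = x + (α ⬝ᵥ x) • a) →
      (g ∈ P ↔ Tr P a α) := fun g a α h0 hg =>
    ⟨fun h => ⟨h0, g, h, hg⟩, fun ⟨_, m, hm, e⟩ =>
      (Max.gl_ext fun x => by rw [hg, e] : g = m) ▸ hm⟩
  refine ⟨fun c => htr _ _ _ (by rw [smul_dotProduct, hu.1, smul_zero]) fun x => ?_,
    fun c => htr _ _ _ (by rw [smul_dotProduct, hw.1, smul_zero]) fun x => ?_⟩
  · rw [planeHom_mulVec, planeMat_mulVec, coe_uniSL]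
    simp
  · rw [planeHom_mulVec, planeMat_mulVec, coe_lowSL]
    simp
    field_simp

/-- The parameters of two root groups in general position. -/
theorem pair_params (hp2 : p ≠ 2) (hu : Tr P u φ) (hw : Tr P w ψ) (h1 : φ ⬝ᵥ w ≠ 0) (h2 : ψ ⬝ᵥ u ≠ 0) :
    (∃ K : Subfield F, (φ ⬝ᵥ w) * (ψ ⬝ᵥ u) ∈ K ∧ (∀ c : F, Tr P u (c • φ) ↔ c ∈ K) ∧
        ∀ c : F, Tr P w (c • ψ) ↔ c ∈ K) ∨
      p = 3 ∧ ((φ ⬝ᵥ w) * (ψ ⬝ᵥ u)) ^ 2 = -1 ∧ (∀ c : F, Tr P u (c • φ) → c = 0 ∨ c = 1 ∨ c = -1) ∧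
        ∀ c : F, Tr P w (c • ψ) → c = 0 ∨ c = 1 ∨ c = -1 := by
  set θ := planeHom hu.1 hw.1 h1 h2 with hθ
  set lam := (φ ⬝ᵥ w) * (ψ ⬝ᵥ u) with hlam
  have hlam0 : lam ≠ 0 := mul_ne_zero h1 h2
  obtain ⟨huni, hlow⟩ := plane_tr hu hw h1 h2
  have e1 : uniSL (1 : F) ∈ P.comap θ := (huni 1).2 (by rwa [one_smul])
  have e2 : lowSL lam ∈ P.comap θ := by rw [← one_mul lam]; exact (hlow 1).2 (by rwa [one_smul])
  rcases Plane.classify hp2 hlam0 e1 e2 with ⟨K, hK, hA, hB⟩ | ⟨h3, hl, hA, hB⟩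
  · refine Or.inl ⟨K, hK, fun c => by rw [← huni, hA], fun c => ?_⟩
    rw [← hlow, hB]
    exact ⟨fun h => by have := K.div_mem h hK; rwa [mul_div_cancel_right₀ _ hlam0] at this, fun h => mul_mem h hK⟩
  · refine Or.inr ⟨h3, hl, fun c h => hA c ((huni c).2 h), fun c h => ?_⟩
    rcases hB _ ((hlow c).2 h) with e | e | e
    · exact Or.inl ((mul_eq_zero.1 e).resolve_right hlam0)
    · exact Or.inr (Or.inl (mul_right_cancel₀ hlam0 (by rw [e, one_mul])))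
    · exact Or.inr (Or.inr (mul_right_cancel₀ hlam0 (by rw [e, neg_one_mul])))

/-- Two transvections in general position have their parameters in a subfield. -/
theorem pair_field (hirr : Cfsg.Geo.ActsIrreducibly (Cfsg.Geo.matrixSet P)) (hp2 : p ≠ 2)
    (hu : Tr P u φ) (hw : Tr P w ψ) (h1 : φ ⬝ᵥ w ≠ 0) (h2 : ψ ⬝ᵥ u ≠ 0) :
    ∃ K : Subfield F, (φ ⬝ᵥ w) * (ψ ⬝ᵥ u) ∈ K ∧ (∀ c : F, Tr P u (c • φ) ↔ c ∈ K) ∧
      ∀ c : F, Tr P w (c • ψ) ↔ c ∈ K := by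
  rcases pair_params hp2 hu hw h1 h2 with h | ⟨h3, hj, hA, -⟩
  · exact h
  exfalso
  subst h3
  obtain ⟨z, hz, hzφ, hzψ⟩ := exists_common_zero φ ψ
  obtain ⟨x, c, hx, hcz, hpl⟩ := exists_third hirr hu hw h1 h2 hz hzφ hzψ
  set j := (φ ⬝ᵥ w) * (ψ ⬝ᵥ u) with hjdef
  set w' := (φ ⬝ᵥ w)⁻¹ • w with hw'
  set σ := (ψ ⬝ᵥ u)⁻¹ • ψ with hσ
  have hσu : σ ⬝ᵥ u = 1 := by rw [hσ, smul_dotProduct, smul_eq_mul, inv_mul_cancel₀ h2]
  have hσw : σ ⬝ᵥ w' = 0 := by rw [hσ, hw', smul_dotProduct, dotProduct_smul, hw.1, smul_zero, smul_zero]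
  have hφw : φ ⬝ᵥ w' = 1 := by rw [hw', dotProduct_smul, smul_eq_mul, inv_mul_cancel₀ h1]
  let Good : F → F → Prop := fun a b =>
    ∃ g ∈ P, (g : Mat) *ᵥ u = a • u + b • w' ∧ φ ᵥ* ((g⁻¹ : GL3) : Mat) = a • φ - b • σ
  have opU : ∀ a b, Good a b → Good (a + b) b := by
    rintro a b ⟨g, hg, e, e'⟩
    obtain ⟨-, m, hm, em⟩ := id hu
    refine ⟨m * g, mul_mem hm hg, ?_, ?_⟩
    · rw [Max.mulVec_mul_GL, e, em, dotProduct_add, dotProduct_smul, dotProduct_smul, hu.1, hφw]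
      simp only [smul_zero, zero_add, smul_eq_mul, mul_one]
      module
    · rw [_root_.mul_inv_rev, Units.val_mul, ← Matrix.vecMul_vecMul, e']
      refine dotProduct_eq _ _ fun y => ?_
      have hy : ((m⁻¹ : GL3) : Mat) *ᵥ y = y - (φ ⬝ᵥ y) • u := by
        refine Max.mulVec_inj m ?_
        rw [Max.mulVec_inv_cancel, em, dotProduct_sub, dotProduct_smul, hu.1]
        simp
      rw [← dotProduct_mulVec, hy]
      simp only [sub_dotProduct, smul_dotProduct, dotProduct_sub, dotProduct_smul, hu.1, hσu, smul_eq_mul]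
      ring
  have opV : ∀ a b, Good a b → Good a (b + j * a) := by
    rintro a b ⟨g, hg, e, e'⟩
    obtain ⟨-, m, hm, em⟩ := id hw
    refine ⟨m * g, mul_mem hm hg, ?_, ?_⟩
    · rw [Max.mulVec_mul_GL, e, em, dotProduct_add, dotProduct_smul, dotProduct_smul, hw', dotProduct_smul, hw.1]
      simp only [smul_zero, add_zero, smul_eq_mul, smul_smul]
      rw [show (ψ ⬝ᵥ u) = j * (φ ⬝ᵥ w)⁻¹ by rw [hjdef]; field_simp]
      module
    · rw [_root_.mul_inv_rev, Units.val_mul, ← Matrix.vecMul_vecMul, e']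
      refine dotProduct_eq _ _ fun y => ?_
      have hy : ((m⁻¹ : GL3) : Mat) *ᵥ y = y - (ψ ⬝ᵥ y) • w := by
        refine Max.mulVec_inj m ?_
        rw [Max.mulVec_inv_cancel, em, dotProduct_sub, dotProduct_smul, hw.1]
        simp
      rw [← dotProduct_mulVec, hy]
      simp only [sub_dotProduct, smul_dotProduct, dotProduct_sub, dotProduct_smul, hσ, hw.1, smul_eq_mul, hjdef]
      field_simp
      ring
  have good0 : Good 1 0 := ⟨1, one_mem P, by simp, by simp⟩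
  have hA' : ∀ g ∈ P, ∀ d : F, Tr P ((g : Mat) *ᵥ u) (d • (φ ᵥ* ((g⁻¹ : GL3) : Mat))) →
      d = 0 ∨ d = 1 ∨ d = -1 := by
    intro g hg d hd
    refine hA d ?_
    have := hd.conj (inv_mem hg)
    rwa [Max.inv_mulVec_cancel, inv_inv, Matrix.smul_vecMul, Matrix.vecMul_vecMul, ← Units.val_mul,
      inv_mul_cancel, Units.val_one, Matrix.vecMul_one] at this
  have value : ∀ a b, Good a b → Icosa.Four j
      ((a * (φ ⬝ᵥ x) - b * (σ ⬝ᵥ x)) * ((c ⬝ᵥ u) * a + (c ⬝ᵥ w') * b)) := by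
    rintro a b ⟨g, hg, e, e'⟩
    have hg' := hu.conj hg
    have eL : (φ ᵥ* ((g⁻¹ : GL3) : Mat)) ⬝ᵥ x = a * (φ ⬝ᵥ x) - b * (σ ⬝ᵥ x) := by
      rw [e', sub_dotProduct, smul_dotProduct, smul_dotProduct]; rfl
    have eR : c ⬝ᵥ ((g : Mat) *ᵥ u) = (c ⬝ᵥ u) * a + (c ⬝ᵥ w') * b := by
      rw [e, dotProduct_add, dotProduct_smul, dotProduct_smul, smul_eq_mul, smul_eq_mul]; ring
    rw [← eL, ← eR]
    by_cases hz1 : (φ ᵥ* ((g⁻¹ : GL3) : Mat)) ⬝ᵥ x = 0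
    · left; rw [hz1, zero_mul]
    by_cases hz2 : c ⬝ᵥ ((g : Mat) *ᵥ u) = 0
    · left; rw [hz2, mul_zero]
    rcases pair_params hp2 hg' hx hz1 hz2 with ⟨K, hK, hKu, -⟩ | ⟨-, hsq, -, -⟩
    · rcases hA' g hg _ ((hKu _).2 hK) with r | r | r
      · exact Or.inl r
      · exact Or.inr (Or.inl r)
      · exact Or.inr (Or.inr (Or.inl r))
    · rcases sq_eq_sq_iff_eq_or_eq_neg.1 (hsq.trans hj.symm) with r | r
      · exact Or.inr (Or.inr (Or.inr (Or.inl r)))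
      · exact Or.inr (Or.inr (Or.inr (Or.inr r)))
  -- the ten vectors
  have h3 := Icosa.three (F := F)
  have h2' : (2 : F) = -1 := Icosa.ev_two
  have g1 : Good 1 j := by simpa using opV _ _ good0
  have g2 : Good (1 + j) j := opU _ _ g1
  have g3 : Good 1 (2 * j) := by
    have := opV _ _ g1; rwa [show j + j * 1 = 2 * j by ring] at this
  have g4 : Good (1 + 2 * j) j := by
    have := opU _ _ g2; rwa [show 1 + j + j = 1 + 2 * j by ring] at this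
  have g5 : Good (1 + 2 * j) (2 * j) := opU _ _ g3
  have g6 : Good (1 + j) (2 + 2 * j) := by
    have := opV _ _ g2
    rwa [show j + j * (1 + j) = 2 + 2 * j by linear_combination hj - h3] at this
  have g7 : Good (1 + j) (2 * j) := by
    have := opU _ _ g5
    rwa [show 1 + 2 * j + 2 * j = 1 + j by linear_combination j * h3] at this
  have g8 : Good 0 (2 + 2 * j) := by
    have := opU _ _ g6
    rwa [show 1 + j + (2 + 2 * j) = 0 by linear_combination (1 + j) * h3] at this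
  have g9 : Good (1 + 2 * j) (1 + 2 * j) := by
    have := opV _ _ g4
    rwa [show j + j * (1 + 2 * j) = 1 + 2 * j by linear_combination 2 * hj - h3] at this
  have hten : ∀ v ∈ Icosa.vecs, Good (Icosa.ev j v.1) (Icosa.ev j v.2) := by
    intro v hv
    simp only [Icosa.vecs, List.mem_cons, List.not_mem_nil, or_false] at hv
    rcases hv with rfl | rfl | rfl | rfl | rfl | rfl | rfl | rfl | rfl | rfl <;>
      simp only [Icosa.ev, map_zero, map_one, map_ofNat, zero_mul, one_mul, zero_add, add_zero] <;>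
      assumption
  have hdot := Icosa.dot_eq_zero (j := j) hj (X := σ ⬝ᵥ x) (Y := φ ⬝ᵥ x) (A := c ⬝ᵥ u) (B := c ⬝ᵥ w')
    fun v hv => value _ _ (hten v hv)
  -- so the axis passes through `z`
  set z' := x - (σ ⬝ᵥ x) • u - (φ ⬝ᵥ x) • w' with hz'
  have hcz' : c ⬝ᵥ z' = 0 := by
    rw [hz', dotProduct_sub, dotProduct_sub, dotProduct_smul, dotProduct_smul, hx.1, smul_eq_mul, smul_eq_mul]
    linear_combination -hdot
  have hz'φ : φ ⬝ᵥ z' = 0 := by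
    rw [hz', dotProduct_sub, dotProduct_sub, dotProduct_smul, dotProduct_smul, hu.1, hφw]; simp
  have hz'ψ : ψ ⬝ᵥ z' = 0 := by
    have h5 : σ ⬝ᵥ z' = 0 := by
      rw [hz', dotProduct_sub, dotProduct_sub, dotProduct_smul, dotProduct_smul, hσu, hσw]; simp
    rw [hσ, smul_dotProduct, smul_eq_mul] at h5
    exact (mul_eq_zero.1 h5).resolve_left (inv_ne_zero h2)
  have hz'0 : z' ≠ 0 := fun e => hpl (σ ⬝ᵥ x) ((φ ⬝ᵥ x) * (φ ⬝ᵥ w)⁻¹) (by
    rw [hz', hw', sub_sub, sub_eq_zero, smul_smul] at e; exact e)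
  by_cases hdep : ∃ d : F, z' = d • z
  · obtain ⟨d, hd⟩ := hdep
    rw [hd, dotProduct_smul, smul_eq_mul, mul_eq_zero] at hcz'
    rcases hcz' with r | r
    · exact hz'0 (by rw [hd, r, zero_smul])
    · exact hcz r
  push Not at hdep
  have hφ0 : φ ≠ 0 := fun e => h1 (by rw [e, zero_dotProduct])
  obtain ⟨d, hd⟩ := Max.SL3.Singer.Thin.prop_of_two hφ0 hz (fun c' e => hdep c' e) hzφ hz'φ hzψ hz'ψ
  rw [hd, smul_dotProduct, hu.1, smul_zero] at h2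
  exact h2 rfl

end Cfsg.Agent.PSLThree.Trans
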