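import Mathlib
import Cfsg.Agent.Lib.PSLThree.Trans.Roots

/-!
# A triangle of root groups in normal coordinates

An irreducible group with transvections has, in a suitable basis, the three root groups with axes
`(0,1,μ)`, `(a,0,1)`, `(τ,b,0)` on the basis vectors, all with parameters exactly a subfield `K`.
-/

set_option autoImplicit false
set_option linter.unusedSectionVars false

namespace Cfsg.Agent.PSLThree.Trans

open Matrix Cfsg.Agent.Forms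
open Cfsg.Agent.Forms.Max.SL3.Singer

variable {F : Type*} [Field F] [Fintype F]

local notation "Mat" => Matrix (Fin 3) (Fin 3) F
local notation "Vec" => (Fin 3 → F)
local notation "GL3" => GL (Fin 3) F

/-- the parameters of the root group are exactly `K` -/
def Params (P : Subgroup (GL (Fin 3) F)) (u φ : Fin 3 → F) (K : Subfield F) : Prop :=
  ∀ c : F, Tr P u (c • φ) ↔ c ∈ K

/-- the conjugate group -/
def conjg (T : GL (Fin 3) F) (P : Subgroup (GL (Fin 3) F)) : Subgroup (GL (Fin 3) F) :=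
  P.map (MulAut.conj T).toMonoidHom

variable {P : Subgroup (GL (Fin 3) F)} {u φ w ψ v x c y : Fin 3 → F} {K K' : Subfield F}

theorem mem_conjg {T g : GL3} : g ∈ conjg T P ↔ T⁻¹ * g * T ∈ P := by
  constructor
  · rintro ⟨h, hh, rfl⟩
    simpa [mul_assoc] using hh
  · intro h
    exact ⟨_, h, by simp [mul_assoc]⟩

theorem conj_mem_conjg {T g : GL3} (h : g ∈ P) : T * g * T⁻¹ ∈ conjg T P :=
  mem_conjg.2 (by simpa [mul_assoc] using h)

theorem conjg_conjg (S T : GL3) : conjg S (conjg T P) = conjg (S * T) P := by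
  ext g
  simp [mem_conjg, mul_assoc]

theorem tr_conjg (T : GL3) (h : Tr P u φ) :
    Tr (conjg T P) ((T : Mat) *ᵥ u) (φ ᵥ* ((T⁻¹ : GL3) : Mat)) := by
  obtain ⟨h0, m, hm, e⟩ := h
  refine ⟨by rw [← dotProduct_mulVec, Max.inv_mulVec_cancel, h0], T * m * T⁻¹, conj_mem_conjg hm, fun x => ?_⟩
  rw [Max.mulVec_mul_GL, Max.mulVec_mul_GL, e, Matrix.mulVec_add, Matrix.mulVec_smul, Max.mulVec_inv_cancel,
    ← dotProduct_mulVec]

theorem tr_conjg_iff (T : GL3) :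
    Tr (conjg T P) ((T : Mat) *ᵥ u) (φ ᵥ* ((T⁻¹ : GL3) : Mat)) ↔ Tr P u φ := by
  refine ⟨fun h => ?_, tr_conjg T⟩
  have h1 := tr_conjg T⁻¹ h
  rw [conjg_conjg, inv_mul_cancel, Max.inv_mulVec_cancel, inv_inv, vecMul_vecMul, ← Units.val_mul,
    inv_mul_cancel, Units.val_one, vecMul_one] at h1
  convert h1 using 1
  ext g
  simp [mem_conjg]

theorem params_conjg (T : GL3) (h : Params P u φ K) :
    Params (conjg T P) ((T : Mat) *ᵥ u) (φ ᵥ* ((T⁻¹ : GL3) : Mat)) K := fun c => by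
  rw [← smul_vecMul, tr_conjg_iff]; exact h c

theorem irred_conjg (hirr : Cfsg.Geo.ActsIrreducibly (Cfsg.Geo.matrixSet P)) (T : GL3) :
    Cfsg.Geo.ActsIrreducibly (Cfsg.Geo.matrixSet (conjg T P)) := by
  intro W hW
  let V : Submodule F Vec := W.comap (Matrix.toLin' (T : Mat))
  have hmem : ∀ x, x ∈ V ↔ (T : Mat) *ᵥ x ∈ W := fun x => by simp [V, Matrix.toLin'_apply]
  have hV : ∀ g ∈ P, ∀ x ∈ V, (g : Mat) *ᵥ x ∈ V := fun g hg x hx => by
    have h1 := hW _ ⟨_, conj_mem_conjg (T := T) hg, rfl⟩ (Submodule.mem_map_of_mem ((hmem x).1 hx))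
    rw [Matrix.toLin'_apply, Max.mulVec_mul_GL, Max.mulVec_mul_GL, Max.inv_mulVec_cancel] at h1
    exact (hmem _).2 h1
  have hback : ∀ x, ((T⁻¹ : GL3) : Mat) *ᵥ x ∈ V ↔ x ∈ W := fun x => by rw [hmem, Max.mulVec_inv_cancel]
  rcases eq_bot_or_top hirr hV with e | e
  · left
    refine (Submodule.eq_bot_iff W).2 fun x hx => ?_
    have h := (hback x).2 hx
    rw [e, Submodule.mem_bot] at h
    rw [← Max.mulVec_inv_cancel T x, h, mulVec_zero]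
  · right
    exact eq_top_iff.2 fun x _ => (hback x).1 (e ▸ Submodule.mem_top)

theorem tr_scale {d : F} (hd : d ≠ 0) : Tr P (d • u) φ ↔ Tr P u (d • φ) := by
  refine ⟨fun h => h.swap hd, fun h => ?_⟩
  obtain ⟨h0, m, hm, e⟩ := h
  rw [smul_dotProduct, smul_eq_mul, mul_eq_zero] at h0
  refine ⟨by rw [dotProduct_smul, h0.resolve_left hd, smul_zero], m, hm, fun x => ?_⟩
  rw [e, smul_dotProduct, smul_smul, smul_eq_mul, mul_comm]

theorem params_scale {d : F} (hd : d ≠ 0) (h : Params P u φ K) : Params P (d • u) (d⁻¹ • φ) K := fun c => by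
  rw [tr_scale hd, smul_smul, smul_smul, mul_comm d c, mul_assoc, mul_inv_cancel₀ hd, mul_one]
  exact h c

/-- conjugation of a root by another -/
theorem tr_push (hu : Tr P u φ) (hw : Tr P w ψ) :
    Tr P (u + (ψ ⬝ᵥ u) • w) (φ - (φ ⬝ᵥ w) • ψ) := by
  obtain ⟨hw0, m, hm, e⟩ := hw
  have h := hu.conj hm
  have hy : ∀ y, ((m⁻¹ : GL3) : Mat) *ᵥ y = y - (ψ ⬝ᵥ y) • w := fun y => by
    refine Max.mulVec_inj m ?_
    rw [Max.mulVec_inv_cancel, e, dotProduct_sub, dotProduct_smul, hw0]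
    simp
  rw [e] at h
  convert h using 2
  refine dotProduct_eq _ _ fun y => ?_
  rw [← dotProduct_mulVec, hy, sub_dotProduct, smul_dotProduct, dotProduct_sub, dotProduct_smul, smul_eq_mul,
    smul_eq_mul, mul_comm]

theorem Params.tr (h : Params P u φ K) : Tr P u φ := by simpa using (h 1).2 (one_mem K)

theorem Params.unique (h : Params P u φ K) (h' : Params P u φ K') : K = K' :=
  SetLike.ext fun c => by rw [← h c, h' c]

/-- any two root groups in general position have the same parameters, a field with more than two elements -/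
def PairHyp (P : Subgroup (GL (Fin 3) F)) : Prop :=
  ∀ u φ w ψ : Fin 3 → F, Tr P u φ → Tr P w ψ → φ ⬝ᵥ w ≠ 0 → ψ ⬝ᵥ u ≠ 0 →
    ∃ K : Subfield F, (∃ k ∈ K, k ≠ 0 ∧ k ≠ 1) ∧ (φ ⬝ᵥ w) * (ψ ⬝ᵥ u) ∈ K ∧ Params P u φ K ∧ Params P w ψ K

theorem pairHyp_of_odd {p : ℕ} [Fact p.Prime] [CharP F p]
    (hirr : Cfsg.Geo.ActsIrreducibly (Cfsg.Geo.matrixSet P)) (hp2 : p ≠ 2) : PairHyp P := by
  intro u φ w ψ hu hw h1 h2
  obtain ⟨K, h⟩ := pair_field hirr hp2 hu hw h1 h2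
  exact ⟨K, ⟨-1, neg_mem (one_mem K), neg_ne_zero.2 one_ne_zero,
    fun e => Plane.two_ne (F := F) hp2 (by linear_combination -e)⟩, h⟩

theorem pairHyp_conjg (hP : PairHyp P) (T : GL3) : PairHyp (conjg T P) := by
  intro u φ w ψ hu hw h1 h2
  obtain ⟨u, rfl⟩ : ∃ a, (T : Mat) *ᵥ a = u := ⟨_, Max.mulVec_inv_cancel T u⟩
  obtain ⟨w, rfl⟩ : ∃ a, (T : Mat) *ᵥ a = w := ⟨_, Max.mulVec_inv_cancel T w⟩
  obtain ⟨φ, rfl⟩ : ∃ a, a ᵥ* ((T⁻¹ : GL3) : Mat) = φ := ⟨φ ᵥ* (T : Mat), by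
    rw [vecMul_vecMul, ← Units.val_mul, mul_inv_cancel, Units.val_one, vecMul_one]⟩
  obtain ⟨ψ, rfl⟩ : ∃ a, a ᵥ* ((T⁻¹ : GL3) : Mat) = ψ := ⟨ψ ᵥ* (T : Mat), by
    rw [vecMul_vecMul, ← Units.val_mul, mul_inv_cancel, Units.val_one, vecMul_one]⟩
  rw [← dotProduct_mulVec, Max.inv_mulVec_cancel] at h1 h2
  obtain ⟨K, hk, hlam, ha, hb⟩ := hP u φ w ψ ((tr_conjg_iff T).1 hu) ((tr_conjg_iff T).1 hw) h1 h2
  refine ⟨K, hk, ?_, params_conjg T ha, params_conjg T hb⟩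
  rw [← dotProduct_mulVec, ← dotProduct_mulVec, Max.inv_mulVec_cancel, Max.inv_mulVec_cancel]
  exact hlam

theorem prod_mem (hP : PairHyp P) (h : Params P u φ K) (hy : Tr P y c) : (φ ⬝ᵥ y) * (c ⬝ᵥ u) ∈ K := by
  by_cases h1 : φ ⬝ᵥ y = 0
  · rw [h1, zero_mul]; exact zero_mem K
  by_cases h2 : c ⬝ᵥ u = 0
  · rw [h2, mul_zero]; exact zero_mem K
  obtain ⟨K', -, hK, hu', -⟩ := hP _ _ _ _ h.tr hy h1 h2
  rwa [h.unique hu']

theorem params_of_partner (hP : PairHyp P) (h : Params P u φ K) (hv : Tr P v ψ) (h1 : φ ⬝ᵥ v ≠ 0)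
    (h2 : ψ ⬝ᵥ u ≠ 0) : Params P v ψ K := by
  obtain ⟨K', -, -, hu', hv'⟩ := hP _ _ _ _ h.tr hv h1 h2
  rwa [h.unique hu']

/-- the common zeros of two axes in general position form a line -/
theorem common_zero_unique (h0 : φ ⬝ᵥ u = 0) (h1 : φ ⬝ᵥ w ≠ 0) (h2 : ψ ⬝ᵥ u ≠ 0) {z : Vec} (hz : z ≠ 0)
    (hzφ : φ ⬝ᵥ z = 0) (hzψ : ψ ⬝ᵥ z = 0) (hy1 : φ ⬝ᵥ y = 0) (hy2 : ψ ⬝ᵥ y = 0) : ∃ d : F, y = d • z := by
  by_contra hdep
  push Not at hdep
  have hφ0 : φ ≠ 0 := fun e => h1 (by rw [e, zero_dotProduct])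
  obtain ⟨d, hd⟩ := Max.SL3.Singer.Thin.prop_of_two hφ0 hz (fun c' e => hdep c' e) hzφ hy1 hzψ hy2
  rw [hd, smul_dotProduct, h0, smul_zero] at h2
  exact h2 rfl

/-- three root groups in general position -/
def Triangle (P : Subgroup (GL (Fin 3) F)) (e φ : Fin 3 → Fin 3 → F) : Prop :=
  (∀ i, Tr P (e i) (φ i)) ∧ (∀ i j, i ≠ j → φ i ⬝ᵥ e j ≠ 0) ∧ LinearIndependent F e ∧
    ∀ y, (∀ i, φ i ⬝ᵥ y = 0) → y = 0

theorem triangle_of (hu : Tr P u φ) (hw : Tr P w ψ) (h1 : φ ⬝ᵥ w ≠ 0) (h2 : ψ ⬝ᵥ u ≠ 0) {z : Vec}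
    (hz : z ≠ 0) (hzφ : φ ⬝ᵥ z = 0) (hzψ : ψ ⬝ᵥ z = 0) (hx : Tr P x c) (hcz : c ⬝ᵥ z ≠ 0)
    (hpl : ∀ s t : F, x ≠ s • u + t • w) (hcu : c ⬝ᵥ u ≠ 0) (hcw : c ⬝ᵥ w ≠ 0) (hφx : φ ⬝ᵥ x ≠ 0)
    (hψx : ψ ⬝ᵥ x ≠ 0) : ∃ e f : Fin 3 → Vec, Triangle P e f := by
  refine ⟨![u, w, x], ![φ, ψ, c], fun i => ?_, fun i j hij => ?_, ?_, fun y hy => ?_⟩
  · fin_cases i <;> assumption
  · fin_cases i <;> fin_cases j <;> first | exact absurd rfl hij | assumption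
  · rw [Fintype.linearIndependent_iff]
    intro g hg
    rw [Fin.sum_univ_three] at hg
    simp only [Matrix.cons_val_zero, Matrix.cons_val_one, Matrix.cons_val] at hg
    have g2 : g 2 = 0 := by
      by_contra hne
      refine hpl (-g 0 / g 2) (-g 1 / g 2) (smul_right_injective Vec hne ?_)
      simp only [smul_add, smul_smul, mul_div_cancel₀ _ hne]
      linear_combination (norm := module) hg
    rw [g2, zero_smul, add_zero] at hg
    have g1 := congrArg (fun y => φ ⬝ᵥ y) hg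
    have g0 := congrArg (fun y => ψ ⬝ᵥ y) hg
    simp [dotProduct_add, dotProduct_smul, hu.1, hw.1, h1, h2] at g1 g0
    intro i
    fin_cases i <;> assumption
  · obtain ⟨d, rfl⟩ := common_zero_unique hu.1 h1 h2 hz hzφ hzψ (hy 0) (hy 1)
    have h3 : c ⬝ᵥ (d • z) = 0 := hy 2
    rw [dotProduct_smul, smul_eq_mul, mul_eq_zero] at h3
    rw [h3.resolve_right hcz, zero_smul]

theorem exists_triangle (hirr : Cfsg.Geo.ActsIrreducibly (Cfsg.Geo.matrixSet P)) (hP : PairHyp P)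
    (ht : HasTrv P) : ∃ e f : Fin 3 → Vec, Triangle P e f := by
  obtain ⟨u, φ, w, ψ, hu, hw, h1, h2⟩ := exists_pair hirr ht
  obtain ⟨K, ⟨k, hkK, hk0, hk1⟩, -, hKu, hKw⟩ := hP _ _ _ _ hu hw h1 h2
  obtain ⟨z, hz, hzφ, hzψ⟩ := exists_common_zero φ ψ
  obtain ⟨x, c, hx, hcz, hpl⟩ := exists_third hirr hu hw h1 h2 hz hzφ hzψ
  let U : F → Vec := fun t => u + (t * (ψ ⬝ᵥ u)) • w
  let Φ : F → Vec := fun t => φ - (t * (φ ⬝ᵥ w)) • ψ
  have hUt : ∀ t ∈ K, Tr P (U t) (Φ t) := fun t htK => by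
    have := tr_push hu ((hKw t).2 htK)
    simpa [U, Φ, smul_smul, mul_comm] using this
  have hΦw : ∀ t, Φ t ⬝ᵥ w = φ ⬝ᵥ w := fun t => by simp [Φ, hw.1]
  have hψU : ∀ t, ψ ⬝ᵥ U t = ψ ⬝ᵥ u := fun t => by simp [U, hw.1]
  have hΦU : ∀ t t', Φ t ⬝ᵥ U t' = (t' - t) * ((φ ⬝ᵥ w) * (ψ ⬝ᵥ u)) := fun t t' => by
    simp [U, Φ, hu.1, hw.1]; ring
  have hplU : ∀ t s r, x ≠ s • U t + r • w := fun t s r e =>
    hpl s (s * (t * (ψ ⬝ᵥ u)) + r) (by rw [e]; simp only [U]; module)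
  have hzU : ∀ t, Φ t ⬝ᵥ z = 0 := fun t => by simp [Φ, hzφ, hzψ]
  -- two linear conditions
  have hcne : ¬(c ⬝ᵥ u = 0 ∧ c ⬝ᵥ w = 0) := fun ⟨e1, e2⟩ => by
    have hxz : c ⬝ᵥ x = 0 := hx.1
    obtain ⟨d, hd⟩ := common_zero_unique hu.1 h1 h2 hz hzφ hzψ
      (y := x - ((ψ ⬝ᵥ x) / (ψ ⬝ᵥ u)) • u - ((φ ⬝ᵥ x) / (φ ⬝ᵥ w)) • w)
      (by simp [hu.1, div_mul_cancel₀ _ h1]) (by simp [hw.1, div_mul_cancel₀ _ h2])
    have h3 := congrArg (fun y => c ⬝ᵥ y) hd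
    simp [e1, e2, hxz, hcz] at h3
    rw [h3, zero_smul, sub_sub, sub_eq_zero] at hd
    exact hpl _ _ hd
  have hxne : ¬(φ ⬝ᵥ x = 0 ∧ ψ ⬝ᵥ x = 0) := fun ⟨e1, e2⟩ => by
    obtain ⟨d, hd⟩ := common_zero_unique hu.1 h1 h2 hz hzφ hzψ e1 e2
    have h3 : c ⬝ᵥ x = 0 := hx.1
    rw [hd, dotProduct_smul, smul_eq_mul, mul_eq_zero] at h3
    exact hpl 0 0 (by rw [hd, h3.resolve_right hcz]; simp)
  have hcU : ∀ t, c ⬝ᵥ U t = c ⬝ᵥ u + t * ((ψ ⬝ᵥ u) * (c ⬝ᵥ w)) := fun t => by simp [U]; ring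
  have hΦx : ∀ t, Φ t ⬝ᵥ x = φ ⬝ᵥ x - t * ((φ ⬝ᵥ w) * (ψ ⬝ᵥ x)) := fun t => by simp [Φ]; ring
  -- each condition excludes one parameter
  have hoc : ∀ t t', c ⬝ᵥ U t = 0 → c ⬝ᵥ U t' = 0 → t = t' := fun t t' e e' => by
    by_contra hne
    rw [hcU] at e e'
    have hc0 : (t - t') * ((ψ ⬝ᵥ u) * (c ⬝ᵥ w)) = 0 := by linear_combination e - e'
    have hw0 : c ⬝ᵥ w = 0 := by simpa [sub_ne_zero.2 hne, h2] using hc0
    exact hcne ⟨by simpa [hw0] using e, hw0⟩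
  have hox : ∀ t t', Φ t ⬝ᵥ x = 0 → Φ t' ⬝ᵥ x = 0 → t = t' := fun t t' e e' => by
    by_contra hne
    rw [hΦx] at e e'
    have hc0 : (t - t') * ((φ ⬝ᵥ w) * (ψ ⬝ᵥ x)) = 0 := by linear_combination e' - e
    have hw0 : ψ ⬝ᵥ x = 0 := by simpa [sub_ne_zero.2 hne, h1] using hc0
    exact hxne ⟨by simpa [hw0] using e, hw0⟩
  have hn01 : (0 : F) ≠ 1 := zero_ne_one
  have hn0m : (0 : F) ≠ k := hk0.symm
  have hn1m : (1 : F) ≠ k := hk1.symm
  let good : F → Prop := fun t => c ⬝ᵥ U t ≠ 0 ∧ Φ t ⬝ᵥ x ≠ 0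
  by_cases hgw : c ⬝ᵥ w ≠ 0 ∧ ψ ⬝ᵥ x ≠ 0
  · obtain ⟨t, htK, hg⟩ : ∃ t ∈ K, good t := by
      by_contra hc
      push Not at hc
      have hb : ∀ t ∈ K, c ⬝ᵥ U t = 0 ∨ Φ t ⬝ᵥ x = 0 := fun t ht => by
        have := hc t ht; simp only [good, not_and_or, not_not] at this; exact this
      rcases hb 0 (zero_mem K) with a | a <;> rcases hb 1 (one_mem K) with b | b <;>
        rcases hb k hkK with d | d
      all_goals first
        | exact hn01 (hoc _ _ a b) | exact hn01 (hox _ _ a b)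
        | exact hn0m (hoc _ _ a d) | exact hn0m (hox _ _ a d)
        | exact hn1m (hoc _ _ b d) | exact hn1m (hox _ _ b d)
    exact triangle_of (hUt t htK) hw (by rw [hΦw]; exact h1) (by rw [hψU]; exact h2) hz (hzU t) hzψ hx hcz
      (hplU t) hg.1 hgw.1 hg.2 hgw.2
  · -- now at most one bad parameter
    have hone : ∀ t t', ¬good t → ¬good t' → t = t' := by
      intro t t' a b
      simp only [good, not_and_or, not_not] at a b
      rw [not_and_or, not_not, not_not] at hgw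
      rcases hgw with g | g
      · have hnc : ∀ s, c ⬝ᵥ U s ≠ 0 := fun s e => hcne ⟨by simpa [hcU, g] using e, g⟩
        exact hox _ _ (a.resolve_left (hnc t)) (b.resolve_left (hnc t'))
      · have hnx : ∀ s, Φ s ⬝ᵥ x ≠ 0 := fun s e => hxne ⟨by simpa [hΦx, g] using e, g⟩
        exact hoc _ _ (a.resolve_right (hnx t)) (b.resolve_right (hnx t'))
    obtain ⟨t, htK, t', htK', hne, hg, hg'⟩ : ∃ t ∈ K, ∃ t' ∈ K, t ≠ t' ∧ good t ∧ good t' := by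
      by_cases g0 : good 0
      · by_cases g1 : good 1
        · exact ⟨0, zero_mem K, 1, one_mem K, hn01, g0, g1⟩
        · exact ⟨0, zero_mem K, k, hkK, hn0m, g0,
            by_contra fun g => hn1m (hone _ _ g1 g)⟩
      · exact ⟨1, one_mem K, k, hkK, hn1m, by_contra fun g => hn01 (hone _ _ g0 g),
          by_contra fun g => hn0m (hone _ _ g0 g)⟩
    have hl := mul_ne_zero h1 h2
    refine triangle_of (hUt t htK) (hUt t' htK') (by rw [hΦU]; exact mul_ne_zero (sub_ne_zero.2 (Ne.symm hne)) hl)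
      (by rw [hΦU]; exact mul_ne_zero (sub_ne_zero.2 hne) hl) hz (hzU t) (hzU t') hx hcz (fun s r e => ?_)
      hg.1 hg'.1 hg.2 hg'.2
    exact hpl (s + r) (s * (t * (ψ ⬝ᵥ u)) + r * (t' * (ψ ⬝ᵥ u))) (by rw [e]; simp only [U]; module)

/-- the matrix of axes -/
def axes (μ a τ b : F) : Fin 3 → Fin 3 → F := ![![0, 1, μ], ![a, 0, 1], ![τ, b, 0]]

/-- a triangle of root groups in normal coordinates -/
structure Gauge (Q : Subgroup (GL (Fin 3) F)) (K : Subfield F) (μ a τ b : F) : Prop where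
  pair : PairHyp Q
  root : ∀ i : Fin 3, Params Q (Pi.single i 1) (axes μ a τ b i) K
  big : ∃ k ∈ K, k ≠ 0 ∧ k ≠ 1
  ha : a ∈ K
  hb : b ∈ K
  hn : τ * μ ∈ K
  hs : τ - μ * a * b ∈ K
  a_ne : a ≠ 0
  b_ne : b ≠ 0
  tau_ne : τ ≠ 0
  mu_ne : μ ≠ 0
  det_ne : τ + μ * a * b ≠ 0

theorem exists_gauge (hirr : Cfsg.Geo.ActsIrreducibly (Cfsg.Geo.matrixSet P)) (hP : PairHyp P)
    (ht : HasTrv P) : ∃ (T : GL3) (K : Subfield F) (μ a τ b : F), Gauge (conjg T P) K μ a τ b := by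
  obtain ⟨e, f, htr, hne, hli, hker⟩ := exists_triangle hirr hP ht
  obtain ⟨K, hbig, -, hK0, hK1⟩ := hP _ _ _ _ (htr 0) (htr 1) (hne 0 1 (by decide)) (hne 1 0 (by decide))
  have hK2 : Params P (e 2) (f 2) K :=
    params_of_partner hP hK1 (htr 2) (hne 1 2 (by decide)) (hne 2 1 (by decide))
  have hpar : ∀ i, Params P (e i) (f i) K := by
    intro i; fin_cases i <;> assumption
  have hprod : ∀ i j, (f i ⬝ᵥ e j) * (f j ⬝ᵥ e i) ∈ K := fun i j => prod_mem hP (hpar i) (htr j)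
  have x01 := hne 0 1 (by decide)
  have x12 := hne 1 2 (by decide)
  set d : Fin 3 → F := ![1, (f 0 ⬝ᵥ e 1)⁻¹, (f 0 ⬝ᵥ e 1)⁻¹ * (f 1 ⬝ᵥ e 2)⁻¹] with hd
  have hd0 : ∀ i, d i ≠ 0 := by
    intro i; fin_cases i <;> simp [hd, x01, x12]
  let E : Mat := Matrix.of fun k i => d i * e i k
  have hE : ∀ y : Vec, E *ᵥ y = ∑ i, (y i * d i) • e i := fun y => by
    ext k
    simp [E, Matrix.mulVec, dotProduct, mul_comm, mul_left_comm]
  have hinj : ∀ y : Vec, E *ᵥ y = 0 → y = 0 := fun y hy => by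
    rw [hE] at hy
    exact funext fun i => by simpa [hd0 i] using Fintype.linearIndependent_iff.1 hli _ hy i
  have hdet : E.det ≠ 0 := fun h => by
    obtain ⟨y, hy0, hy⟩ := Matrix.exists_mulVec_eq_zero_iff.2 h
    exact hy0 (hinj y hy)
  set A : GL3 := Matrix.GeneralLinearGroup.mkOfDetNeZero E hdet with hA
  have hAE : (A : Mat) = E := rfl
  have hAs : ∀ i, (A : Mat) *ᵥ Pi.single i 1 = d i • e i := fun i => by
    ext k; simp [hAE, E]
  set M : Fin 3 → Fin 3 → F := fun i j => (d i)⁻¹ * (d j * (f i ⬝ᵥ e j)) with hM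
  have hrow : ∀ i, ((d i)⁻¹ • f i) ᵥ* (A : Mat) = M i := fun i => by
    ext j
    rw [← dotProduct_single_one (((d i)⁻¹ • f i) ᵥ* (A : Mat)) j, ← dotProduct_mulVec, hAs, smul_dotProduct,
      dotProduct_smul, smul_eq_mul, smul_eq_mul]
  refine ⟨A⁻¹, K, M 0 2, M 1 0, M 2 0, M 2 1, ?_⟩
  have m01 : M 0 1 = 1 := by simp [hM, hd, x01]
  have m12 : M 1 2 = 1 := by
    simp only [hM, hd, Matrix.cons_val_one, Matrix.cons_val_zero, Matrix.cons_val]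
    field_simp
  have mdiag : ∀ i, M i i = 0 := fun i => by simp [hM, (htr i).1]
  have hax : axes (M 0 2) (M 1 0) (M 2 0) (M 2 1) = M := by
    funext i j
    fin_cases i <;> fin_cases j <;> simp [axes, mdiag, m01, m12]
  have hroot : ∀ i, Params (conjg A⁻¹ P) (Pi.single i 1) (M i) K := fun i => by
    have := params_conjg A⁻¹ (params_scale (hd0 i) (hpar i))
    rwa [← hAs, Max.inv_mulVec_cancel, inv_inv, hrow] at this
  have hmem : ∀ i j, M i j * M j i ∈ K := fun i j => by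
    have e1 : M i j * M j i = (f i ⬝ᵥ e j) * (f j ⬝ᵥ e i) := by
      simp only [hM]; field_simp [hd0 i, hd0 j]
    rw [e1]; exact hprod i j
  have hP' := pairHyp_conjg hP (A⁻¹ : GL3)
  have hM0 : ∀ i j, i ≠ j → M i j ≠ 0 := fun i j h => by simp [hM, hd0, hne i j h]
  have hn : M 2 0 * M 0 2 ∈ K := hmem 2 0
  have ha : M 1 0 ∈ K := by simpa [m01] using hmem 1 0
  have hb : M 2 1 ∈ K := by simpa [m12] using hmem 2 1
  have hs : M 2 0 - M 0 2 * M 1 0 * M 2 1 ∈ K := by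
    have hp := prod_mem hP' (hroot 2) (tr_push (hroot 0).tr (hroot 1).tr)
    have ev : ∀ i j, M i ⬝ᵥ Pi.single j 1 = M i j := fun i j => dotProduct_single_one _ _
    simp only [dotProduct_add, dotProduct_smul, sub_dotProduct, smul_dotProduct, ev, m01, m12, smul_eq_mul,
      one_mul, mul_one] at hp
    have e1 : M 2 0 - M 0 2 * M 1 0 * M 2 1 = M 2 0 * M 0 2 - M 1 0 * M 2 1 -
        (M 2 0 + M 1 0 * M 2 1) * (M 0 2 - 1) + 0 := by ring
    rw [e1, add_zero]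
    exact sub_mem (sub_mem hn (mul_mem ha hb)) hp
  refine ⟨hP', fun i => by rw [hax]; exact hroot i, hbig, ha, hb, hn, hs, hM0 1 0 (by decide), hM0 2 1 (by decide),
    hM0 2 0 (by decide), hM0 0 2 (by decide), fun h => ?_⟩
  -- the axes have no common zero
  have hy := hker (E *ᵥ ![1, M 0 2 * M 1 0, -M 1 0]) fun i => by
    have h1 : ((d i)⁻¹ • f i) ⬝ᵥ (E *ᵥ ![1, M 0 2 * M 1 0, -M 1 0]) = M i ⬝ᵥ ![1, M 0 2 * M 1 0, -M 1 0] := by
      rw [dotProduct_mulVec, ← hAE, hrow]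
    rw [smul_dotProduct, smul_eq_mul] at h1
    have h2 : M i ⬝ᵥ ![1, M 0 2 * M 1 0, -M 1 0] = 0 := by
      rw [← hax]
      fin_cases i <;> simp [axes, dotProduct, Fin.sum_univ_three] <;> linear_combination h
    rw [h2, mul_eq_zero] at h1
    exact h1.resolve_left (inv_ne_zero (hd0 i))
  exact one_ne_zero (α := F) (congrFun (hinj _ hy) 0)

end Cfsg.Agent.PSLThree.Trans
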