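import Cfsg.Agent.Lib.PSLThree.Trans.Unitary

/-!
# Cores with transvections are of linear or unitary type
-/

set_option autoImplicit false

namespace Cfsg.Agent.PSLThree.Trans

variable {F : Type*} [Field F] [Fintype F]

/-- pairs of root groups with field parameters give linear or unitary type -/
theorem trans_type_of_pair (p : ℕ) [Fact p.Prime] [CharP F p] {P : Subgroup (GL (Fin 3) F)} (hC : Core P)
    (ht : HasTrv P) (hP : PairHyp P) : LinType P ∨ UniType P := by
  obtain ⟨T, K, μ, a, τ, b, G⟩ := exists_gauge hC.irred hP ht
  by_cases hτ : τ ∈ K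
  · exact Or.inl (linear_type hC ht G hτ)
  · exact Or.inr (unitary_type p hC ht G hτ)

/-- an irreducible core with a transvection is a linear or unitary group over a subfield -/
theorem trans_type (p : ℕ) [Fact p.Prime] [CharP F p] (hp2 : p ≠ 2) {P : Subgroup (GL (Fin 3) F)}
    (hC : Core P) (ht : HasTrv P) : LinType P ∨ UniType P := by
  exact trans_type_of_pair p hC ht (pairHyp_of_odd hC.irred hp2)

end Cfsg.Agent.PSLThree.Trans
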