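import Mathlib
import Cfsg.Agent.Lib.PSLThree.Even.Plane
import Cfsg.Agent.Lib.PSLThree.Trans.Main

/-!
# Characteristic two: one thick root group makes all of them thick

If some root group has more than two elements, pairs of root groups in general position have their parameters
in a subfield with at least four elements, and the core is of linear or unitary type.
-/

set_option autoImplicit false
set_option linter.unusedSectionVars false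

namespace Cfsg.Agent.PSLThree.Trans

open Matrix Cfsg.Agent.Forms
open Cfsg.Agent.Forms.Max.SL3.Singer

variable {F : Type*} [Field F] [Fintype F]

local notation "Mat" => Matrix (Fin 3) (Fin 3) F
local notation "Vec" => (Fin 3 → F)
local notation "GL3" => GL (Fin 3) F

variable {P : Subgroup (GL (Fin 3) F)} {u φ w ψ : Fin 3 → F}

/-- the root group has more than two elements -/
def Thick (P : Subgroup (GL (Fin 3) F)) (u φ : Fin 3 → F) : Prop :=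
  Tr P u φ ∧ ∃ k : F, k ≠ 0 ∧ k ≠ 1 ∧ Tr P u (k • φ)

theorem Thick.conj (h : Thick P u φ) {g : GL3} (hg : g ∈ P) :
    Thick P ((g : Mat) *ᵥ u) (φ ᵥ* ((g⁻¹ : GL3) : Mat)) := by
  obtain ⟨h1, k, hk0, hk1, hk⟩ := h
  exact ⟨h1.conj hg, k, hk0, hk1, by rw [← smul_vecMul]; exact hk.conj hg⟩

theorem Thick.push (h : Thick P u φ) (hw : Tr P w ψ) :
    Thick P (u + (ψ ⬝ᵥ u) • w) (φ - (φ ⬝ᵥ w) • ψ) := by
  obtain ⟨h1, k, hk0, hk1, hk⟩ := h
  refine ⟨tr_push h1 hw, k, hk0, hk1, ?_⟩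
  have := tr_push hk hw
  rwa [smul_dotProduct, smul_eq_mul, ← smul_smul, ← smul_sub] at this

theorem exists_dual_moved (hirr : Cfsg.Geo.ActsIrreducibly (Cfsg.Geo.matrixSet P)) (hφ : φ ≠ 0) (hw : w ≠ 0) :
    ∃ g ∈ P, (φ ᵥ* ((g⁻¹ : GL3) : Mat)) ⬝ᵥ w ≠ 0 := by
  obtain ⟨g, hg, h⟩ := exists_conj_moved hirr hw hφ
  exact ⟨g⁻¹, inv_mem hg, by rwa [inv_inv, ← dotProduct_mulVec]⟩

/-- every root group has a thick partner in general position -/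
theorem exists_thick_partner (hirr : Cfsg.Geo.ActsIrreducibly (Cfsg.Geo.matrixSet P)) (h : Thick P u φ)
    (hu0 : u ≠ 0) (hφ0 : φ ≠ 0) (hw : Tr P w ψ) (hw0 : w ≠ 0) (hψ0 : ψ ≠ 0) :
    ∃ x c : Vec, Thick P x c ∧ ψ ⬝ᵥ x ≠ 0 ∧ c ⬝ᵥ w ≠ 0 := by
  by_contra hno
  push Not at hno
  obtain ⟨g, hg, hgx⟩ := exists_conj_moved hirr hu0 hψ0
  obtain ⟨g', hg', hgd⟩ := exists_dual_moved hirr hφ0 hw0
  have hA := h.conj hg
  have hB := h.conj hg'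
  set x := (g : Mat) *ᵥ u
  set c := φ ᵥ* ((g⁻¹ : GL3) : Mat) with hc
  set y := (g' : Mat) *ᵥ u
  set d := φ ᵥ* ((g'⁻¹ : GL3) : Mat)
  have hcw : c ⬝ᵥ w = 0 := hno x c hA hgx
  have hψy : ψ ⬝ᵥ y = 0 := by_contra fun e => hgd (hno y d hB e)
  have hcy : c ⬝ᵥ y = 0 := by
    by_contra e
    have h1 := hno _ _ (hA.push hB.1) (by
      rw [dotProduct_add, dotProduct_smul, hψy, smul_zero, add_zero]; exact hgx)
    rw [sub_dotProduct, smul_dotProduct, hcw, zero_sub, neg_eq_zero, smul_eq_mul, mul_eq_zero] at h1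
    exact h1.elim e hgd
  have hc0 : c ≠ 0 := axis_ne_zero hφ0
  have hy0 : y ≠ 0 := Max.mulVec_ne_zero _ hu0
  have hdep : ∀ s : F, y ≠ s • w := fun s e => by
    have h1 : d ⬝ᵥ y = 0 := hB.1.1
    rw [e, dotProduct_smul, smul_eq_mul, mul_eq_zero] at h1
    exact hy0 (by rw [e, h1.resolve_right hgd, zero_smul])
  obtain ⟨s, hs⟩ := Max.SL3.Singer.Thin.prop_of_two hc0 hw0 hdep hcw hcy hw.1 hψy
  exact hgx (by rw [hs, smul_dotProduct, hA.1.1, smul_zero])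

variable [CharP F 2]

/-- the parameters of a pair with a thick member -/
theorem thick_pair (h : Thick P u φ) (hw : Tr P w ψ) (h1 : φ ⬝ᵥ w ≠ 0) (h2 : ψ ⬝ᵥ u ≠ 0) :
    ∃ K : Subfield F, (∃ k ∈ K, k ≠ 0 ∧ k ≠ 1) ∧ (φ ⬝ᵥ w) * (ψ ⬝ᵥ u) ∈ K ∧ Params P u φ K ∧ Params P w ψ K := by
  obtain ⟨hu, k, hk0, hk1, hk⟩ := h
  obtain ⟨huni, hlow⟩ := plane_tr hu hw h1 h2
  set lam := (φ ⬝ᵥ w) * (ψ ⬝ᵥ u)
  have hlam0 : lam ≠ 0 := mul_ne_zero h1 h2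
  obtain ⟨K, hK, hkK, hA, hB⟩ := Even.Plane.classify hk0 hk1 hlam0 ((huni 1).2 (by rwa [one_smul]))
    ((huni k).2 hk) (lam := lam) (by
      have := (hlow 1).2 (by rwa [one_smul])
      rwa [one_mul] at this)
  refine ⟨K, ⟨k, hkK, hk0, hk1⟩, hK, fun c => by rw [← huni, hA], fun c => ?_⟩
  rw [← hlow, hB]
  exact ⟨fun h => by have := K.div_mem h hK; rwa [mul_div_cancel_right₀ _ hlam0] at this, fun h => mul_mem h hK⟩

theorem pairHyp_of_thick (hirr : Cfsg.Geo.ActsIrreducibly (Cfsg.Geo.matrixSet P))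
    (h : ∃ (u φ : Fin 3 → F) (c : F), u ≠ 0 ∧ φ ≠ 0 ∧ Tr P u φ ∧ Tr P u (c • φ) ∧ c ≠ 0 ∧ c ≠ 1) :
    PairHyp P := by
  obtain ⟨u₀, φ₀, c₀, hu₀, hφ₀, ht, htc, hc0, hc1⟩ := h
  have h₀ : Thick P u₀ φ₀ := ⟨ht, c₀, hc0, hc1, htc⟩
  intro u φ w ψ hu hw h1 h2
  have hu0 : u ≠ 0 := fun e => h2 (by rw [e, dotProduct_zero])
  have hφ0 : φ ≠ 0 := fun e => h1 (by rw [e, zero_dotProduct])
  obtain ⟨x, c, hx, hφx, hcu⟩ := exists_thick_partner hirr h₀ hu₀ hφ₀ hu hu0 hφ0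
  obtain ⟨K, ⟨k, hkK, hk0, hk1⟩, -, -, hKu⟩ := thick_pair hx hu hcu hφx
  exact thick_pair ⟨hu, k, hk0, hk1, (hKu k).2 hkK⟩ hw h1 h2

/-- a core with a thick root group in characteristic two is a linear or unitary group over a subfield -/
theorem trans_type_even {P : Subgroup GL3} (hC : Core P)
    (h : ∃ (u φ : Fin 3 → F) (c : F), u ≠ 0 ∧ φ ≠ 0 ∧ Tr P u φ ∧ Tr P u (c • φ) ∧ c ≠ 0 ∧ c ≠ 1) :
    LinType P ∨ UniType P := by
  haveI : Fact (Nat.Prime 2) := ⟨Nat.prime_two⟩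
  obtain ⟨u, φ, c, hu, hφ, ht, htc, hc0, hc1⟩ := h
  exact trans_type_of_pair 2 hC ⟨u, φ, hu, hφ, ht⟩ (pairHyp_of_thick hC.irred ⟨u, φ, c, hu, hφ, ht, htc, hc0, hc1⟩)

end Cfsg.Agent.PSLThree.Trans
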