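import Mathlib
import Cfsg.Agent.Lib.PSLThree.Basic.Lift
import Cfsg.Agent.Lib.PSLThree.Trans.Frame

/-!
# A core is generated by its transvections
-/

set_option autoImplicit false
set_option linter.unusedSectionVars false

namespace Cfsg.Agent.PSLThree.Trans

open Matrix Cfsg.Agent.Forms
open scoped commutatorElement
open Cfsg.Agent.Forms.Max.SL3.Singer

variable {F : Type*} [Field F]

local notation "Mat" => Matrix (Fin 3) (Fin 3) F
local notation "Vec" => (Fin 3 → F)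
local notation "GL3" => GL (Fin 3) F

variable {P : Subgroup (GL (Fin 3) F)}

theorem le_of_trv (hC : Core P) (ht : HasTrv P) {R : Subgroup GL3}
    (h : ∀ m ∈ P, ∀ u φ : Vec, φ ⬝ᵥ u = 0 → (∀ x, (m : Mat) *ᵥ x = x + (φ ⬝ᵥ x) • u) → m ∈ R) :
    P ≤ R := by
  let S : Set P := {m | ∃ u φ : Vec, φ ⬝ᵥ u = 0 ∧ ∀ x, (((m : GL3)) : Mat) *ᵥ x = x + (φ ⬝ᵥ x) • u}
  let N : Subgroup P := Subgroup.normalClosure S
  have hNR : N ≤ R.subgroupOf P := by
    refine (Subgroup.closure_le _).2 fun m hm => ?_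
    obtain ⟨m₀, ⟨u, φ, h0, hact⟩, hconj⟩ := Group.mem_conjugatesOfSet_iff.1 hm
    obtain ⟨g, hg⟩ := isConj_iff.1 hconj
    obtain ⟨h0', n, hn, e⟩ := Tr.conj (⟨h0, (m₀ : GL3), m₀.2, hact⟩ : Tr P u φ) g.2
    refine h m m.2 _ _ h0' fun x => ?_
    rw [← hg]
    simp only [Subgroup.coe_mul, InvMemClass.coe_inv, Max.mulVec_mul_GL, hact, mulVec_add, mulVec_smul,
      Max.mulVec_inv_cancel, ← dotProduct_mulVec]
  haveI := hC.simple
  have hsurj := QuotientGroup.mk'_surjective ((Cfsg.Geo.scalars (Fin 3) F).subgroupOf P)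
  haveI : (N.map (QuotientGroup.mk' ((Cfsg.Geo.scalars (Fin 3) F).subgroupOf P))).Normal :=
    Subgroup.Normal.map inferInstance _ hsurj
  rcases Subgroup.Normal.eq_bot_or_eq_top this with e | e
  · exfalso
    obtain ⟨u, φ, hu, hφ, h0, m, hm, hact⟩ := ht
    have hmN : (⟨m, hm⟩ : P) ∈ N := Subgroup.subset_normalClosure ⟨u, φ, h0, hact⟩
    have h1 := (Subgroup.eq_bot_iff_forall _).1 e _ (Subgroup.mem_map_of_mem _ hmN)
    rw [QuotientGroup.mk'_apply, mk_eq_one] at h1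
    obtain ⟨c, hc⟩ := (Cfsg.Geo.mem_scalars_iff m).1 h1
    obtain ⟨y, hy⟩ : ∃ y : Vec, φ ⬝ᵥ y ≠ 0 := by
      by_contra hh
      push Not at hh
      exact hφ (funext fun i => by simpa using hh (Pi.single i 1))
    have hall : ∀ x, (c : F) • x = x + (φ ⬝ᵥ x) • u := fun x => by
      rw [← hact x, hc, smul_mulVec, one_mulVec]
    have h2 : ((c : F) - 1) • u = 0 := by
      rw [sub_smul, one_smul, hall u, h0, zero_smul, add_zero, sub_self]
    rw [smul_eq_zero, sub_eq_zero] at h2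
    have h3 := hall y
    rw [h2.resolve_right hu, one_smul, left_eq_add, smul_eq_zero] at h3
    exact h3.elim hy hu
  · intro x hx
    have hcen : ∀ g : P, ∃ n ∈ N, ∀ k : P, Commute (n⁻¹ * g) k := fun g => by
      obtain ⟨n, hn, hng⟩ : QuotientGroup.mk' ((Cfsg.Geo.scalars (Fin 3) F).subgroupOf P) g ∈
          N.map (QuotientGroup.mk' _) := e ▸ Subgroup.mem_top _
      refine ⟨n, hn, fun k => Subtype.ext ?_⟩
      have := (QuotientGroup.eq.1 hng)
      rw [Subgroup.mem_subgroupOf] at this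
      exact scalar_comm this _
    have hcomm : ∀ g h : P, ⁅g, h⁆ ∈ N := fun g k => by
      obtain ⟨n, hn, hg⟩ := hcen g
      obtain ⟨l, hl, hk⟩ := hcen k
      set z := n⁻¹ * g with hz
      set w := l⁻¹ * k with hw
      have eg : g = n * z := by rw [hz, mul_inv_cancel_left]
      have ek : k = l * w := by rw [hw, mul_inv_cancel_left]
      have e1 : ⁅g, k⁆ = ⁅n, l⁆ := by
        rw [eg, ek, commutatorElement_def, commutatorElement_def, _root_.mul_inv_rev, _root_.mul_inv_rev]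
        calc n * z * (l * w) * (z⁻¹ * n⁻¹) * (w⁻¹ * l⁻¹)
            = n * (z * (l * w) * z⁻¹) * n⁻¹ * (w⁻¹ * l⁻¹) := by group
          _ = n * l * (w * n⁻¹ * w⁻¹) * l⁻¹ := by rw [(hg (l * w)).eq, mul_inv_cancel_right]; group
          _ = n * l * n⁻¹ * l⁻¹ := by rw [(hk n⁻¹).eq, mul_inv_cancel_right]
      rw [e1, commutatorElement_def]
      exact mul_mem (mul_mem (mul_mem hn hl) (inv_mem hn)) (inv_mem hl)
    have hx' : x ∈ ⁅P, P⁆ := by rwa [hC.perfect]
    have hle : ⁅P, P⁆ ≤ N.map P.subtype := Subgroup.commutator_le.2 fun a ha b hb =>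
      ⟨_, hcomm ⟨a, ha⟩ ⟨b, hb⟩, rfl⟩
    obtain ⟨y, hy, rfl⟩ := hle hx'
    exact hNR hy

end Cfsg.Agent.PSLThree.Trans
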