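import Mathlib
import Cfsg.Agent.Lib.Classical.Linear
import Cfsg.Agent.Lib.PSLThree.Trans.Generate

/-!
# The rational triangle: linear type
-/

set_option autoImplicit false
set_option linter.unusedSectionVars false

namespace Cfsg.Agent.PSLThree.Trans

open Matrix Cfsg.Agent.Forms
open Cfsg.Agent.Forms.Max.SL3.Singer
open Cfsg.Agent.Aschbacher (trv trv_mulVec)

variable {F : Type*} [Field F] [Fintype F]

local notation "Mat" => Matrix (Fin 3) (Fin 3) F
local notation "Vec" => (Fin 3 → F)
local notation "GL3" => GL (Fin 3) F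

theorem exists_other : ∀ k j : Fin 3, ∃ i : Fin 3, i ≠ k ∧ i ≠ j := by decide

theorem three_cover : ∀ i j l m : Fin 3, l ≠ j → i ≠ l → i ≠ j → m = i ∨ m = j ∨ m = l := by decide

/-- the matrices of determinant one with entries in the subfield -/
def ratSL (K : Subfield F) : Subgroup (GL (Fin 3) F) :=
  ((GeneralLinearGroup.map (n := Fin 3) K.subtype).comp SpecialLinearGroup.toGL).range

theorem mem_ratSL {K : Subfield F} {g : GL3} :
    g ∈ ratSL K ↔ (g : Mat).det = 1 ∧ ∀ i j, (g : Mat) i j ∈ K := by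
  constructor
  · rintro ⟨A, rfl⟩
    refine ⟨?_, fun i j => ((A : Matrix (Fin 3) (Fin 3) K) i j).2⟩
    show ((A : Matrix (Fin 3) (Fin 3) K).map K.subtype).det = 1
    rw [← RingHom.mapMatrix_apply, ← RingHom.map_det, A.2, map_one]
  · rintro ⟨hd, hK⟩
    let R : Matrix (Fin 3) (Fin 3) K := Matrix.of fun i j => ⟨_, hK i j⟩
    have hR : R.map K.subtype = (g : Mat) := by ext i j; rfl
    have hdR : R.det = 1 := K.subtype.injective (by
      rw [RingHom.map_det, RingHom.mapMatrix_apply, hR, hd, map_one])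
    exact ⟨⟨R, hdR⟩, Units.ext hR⟩

theorem entry_of_act {m : Mat} {u φ : Vec} (h : ∀ x, m *ᵥ x = x + (φ ⬝ᵥ x) • u) (i j : Fin 3) :
    m i j = (1 : Mat) i j + u i * φ j := by
  have := congrFun (h (Pi.single j 1)) i
  rw [mulVec_single_one, dotProduct_single_one, Pi.add_apply, Pi.smul_apply, Pi.single_apply] at this
  rw [Matrix.one_apply]
  simpa [mul_comm] using this

theorem det_of_trv {m : GL3} {u φ : Vec} (h0 : φ ⬝ᵥ u = 0) (h : ∀ x, (m : Mat) *ᵥ x = x + (φ ⬝ᵥ x) • u) :
    (m : Mat).det = 1 := by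
  rw [Max.SL3.Singer.Thin.det_of_act h, h0, add_zero]

theorem mem_ratSL_of_outer {K : Subfield F} {m : GL3} {u φ : Vec} (h0 : φ ⬝ᵥ u = 0)
    (h : ∀ x, (m : Mat) *ᵥ x = x + (φ ⬝ᵥ x) • u) (hK : ∀ i j, u i * φ j ∈ K) : m ∈ ratSL K :=
  mem_ratSL.2 ⟨det_of_trv h0 h, fun i j => by
    rw [entry_of_act h]
    refine add_mem ?_ (hK i j)
    rw [Matrix.one_apply]
    split_ifs <;> simp [one_mem, zero_mem]⟩

/-- a square-zero outer product which is diagonal vanishes -/
theorem outer_eq_zero {y d : Vec} (h0 : d ⬝ᵥ y = 0) (h : ∀ i j, i ≠ j → y i * d j = 0) :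
    ∀ i j, y i * d j = 0 := by
  have hsum : y 0 * d 0 + y 1 * d 1 + y 2 * d 2 = 0 := by
    rw [dotProduct, Fin.sum_univ_three] at h0; linear_combination h0
  have hp : ∀ i j, i ≠ j → (y i * d i) * (y j * d j) = 0 := fun i j hij => by
    rw [show (y i * d i) * (y j * d j) = (y i * d j) * (y j * d i) by ring, h i j hij, zero_mul]
  intro i j
  by_cases hij : i = j
  swap
  · exact h i j hij
  subst hij
  by_contra hne
  have hoth : ∀ j, j ≠ i → y j * d j = 0 := fun j hj => (mul_eq_zero.1 (hp i j hj.symm)).resolve_left hne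
  rcases (three_cover 0 1 2 i (by decide) (by decide) (by decide)) with rfl | rfl | rfl
  · exact hne (by linear_combination hsum - hoth 1 (by decide) - hoth 2 (by decide))
  · exact hne (by linear_combination hsum - hoth 0 (by decide) - hoth 2 (by decide))
  · exact hne (by linear_combination hsum - hoth 0 (by decide) - hoth 1 (by decide))

/-- the diagonal of a square-zero outer product -/
theorem outer_mem {K : Subfield F} {y d : Vec} (h0 : d ⬝ᵥ y = 0) (hoff : ∀ i j, i ≠ j → y i * d j ∈ K)
    (hdiff : ∀ i j, y i * d i - y j * d j ∈ K) : ∀ i j, y i * d j ∈ K := by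
  by_cases hz : ∀ i j, i ≠ j → y i * d j = 0
  · intro i j; rw [outer_eq_zero h0 hz i j]; exact zero_mem K
  push Not at hz
  obtain ⟨k, j, hkj, hne⟩ := hz
  obtain ⟨i, hik, hij⟩ := exists_other k j
  have hii : y i * d i ∈ K := by
    have h1 := K.div_mem (mul_mem (hoff i j hij) (hoff k i hik.symm)) (hoff k j hkj)
    rwa [show y i * d j * (y k * d i) = y i * d i * (y k * d j) by ring, mul_div_cancel_right₀ _ hne] at h1
  intro a b
  by_cases hab : a = b
  · subst hab; simpa using add_mem hii (hdiff a i)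
  · exact hoff a b hab

variable {P : Subgroup (GL (Fin 3) F)}
variable {T : GL (Fin 3) F} {K : Subfield F} {μ a τ b : F}

theorem Gauge.mu_mem (G : Gauge P K μ a τ b) (hτ : τ ∈ K) : μ ∈ K := by
  have := K.div_mem G.hn hτ
  rwa [mul_div_cancel_left₀ _ G.tau_ne] at this

theorem Gauge.axes_mem (G : Gauge P K μ a τ b) (hτ : τ ∈ K) (i j : Fin 3) : axes μ a τ b i j ∈ K := by
  fin_cases i <;> fin_cases j <;>
    simp [axes, zero_mem, one_mem, G.ha, G.hb, hτ, G.mu_mem hτ]

theorem Gauge.axes_ne (G : Gauge P K μ a τ b) {i j : Fin 3} (h : i ≠ j) : axes μ a τ b i j ≠ 0 := by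
  fin_cases i <;> fin_cases j <;> simp_all [axes, G.a_ne, G.b_ne, G.tau_ne, G.mu_ne]

/-- the group contains the rational elementary transvections -/
theorem Gauge.elementary (G : Gauge P K μ a τ b) (hτ : τ ∈ K) {l j : Fin 3} (hlj : l ≠ j) {k : F} (hk : k ∈ K) :
    Tr P (Pi.single l 1) (k • Pi.single j 1) := by
  obtain ⟨i, hil, hij⟩ := exists_other l j
  set x := axes μ a τ b with hx
  have hxm := G.axes_mem hτ
  have xij : x i j ≠ 0 := G.axes_ne hij
  have xjl : x j l ≠ 0 := G.axes_ne hlj.symm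
  have hdiag : ∀ m, x m m = 0 := fun m => by fin_cases m <;> simp [hx, axes]
  have hδ : x l i * x i j * x j l + x i l * x j i * x l j ≠ 0 := by
    fin_cases i <;> fin_cases j <;> fin_cases l <;> first
      | exact absurd rfl hil | exact absurd rfl hij | exact absurd rfl hlj
      | (simp [hx, axes]; intro h; exact G.det_ne (by linear_combination h))
  set k0 := x i l / (x i j * x j l) with hk0
  have hk0m : k0 ∈ K := K.div_mem (hxm i l) (mul_mem (hxm i j) (hxm j l))
  set D := x l i + k0 * x j i * x l j with hD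
  have hDne : D ≠ 0 := fun h => hδ (by
    rw [hD, hk0] at h; field_simp at h; linear_combination h)
  have hDm : D ∈ K := add_mem (hxm l i) (mul_mem (mul_mem hk0m (hxm j i)) (hxm l j))
  have hp := tr_push (G.root i).tr ((G.root j k0).2 hk0m)
  simp only [smul_dotProduct, smul_eq_mul, dotProduct_single_one] at hp
  set φ' := x i - x i j • k0 • x j with hφ'
  have h0 : φ' ⬝ᵥ Pi.single l 1 = 0 := by
    rw [dotProduct_single_one, hφ']
    simp [hk0]
    field_simp
    ring
  have hB : ∀ t ∈ K, Tr P (Pi.single l 1) (t • φ') := fun t ht => by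
    have := ((G.root l (t / D)).2 (K.div_mem ht hDm)).comm hp h0
    simp only [dotProduct_add, dotProduct_smul, smul_dotProduct, dotProduct_single_one, smul_eq_mul,
      Pi.smul_apply] at this
    rwa [show t / D * x l i + k0 * x j i * (t / D * x l j) = t / D * D by rw [hD]; ring,
      div_mul_cancel₀ _ hDne] at this
  have hA : Tr P (Pi.single l 1) ((k * k0 * x j i / D) • x l) :=
    (G.root l _).2 (K.div_mem (mul_mem (mul_mem hk hk0m) (hxm j i)) hDm)
  have hB' := hB (k * x l i / (x i j * D)) (K.div_mem (mul_mem hk (hxm l i)) (mul_mem (hxm i j) hDm))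
  convert hA.add hB' using 2
  funext m
  obtain rfl | rfl | rfl := three_cover i j l m hlj hil hij
  · simp [hφ', hdiag, Pi.single_eq_of_ne hij]
    field_simp
    ring
  · simp [hφ', hdiag]
    field_simp
    rw [hD]
    ring
  · have := h0
    rw [dotProduct_single_one] at this
    simp [this, hdiag, Pi.single_eq_of_ne hlj]

theorem Gauge.ratSL_le (G : Gauge P K μ a τ b) (hτ : τ ∈ K) : ratSL K ≤ P := by
  rintro _ ⟨A, rfl⟩
  set θ := ((GeneralLinearGroup.map (n := Fin 3) K.subtype).comp SpecialLinearGroup.toGL) with hθ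
  have htop : P.comap θ = ⊤ := Classical.Linear.eq_top_of_transvection_mem _ fun i j hij c => by
    obtain ⟨-, m, hm, e⟩ := G.elementary hτ hij c.2
    have : θ (SpecialLinearGroup.transvection hij c) = m := Max.gl_ext fun x => by
      rw [e]
      show ((SpecialLinearGroup.transvection hij c : Matrix (Fin 3) (Fin 3) K).map K.subtype) *ᵥ x = _
      rw [SpecialLinearGroup.transvection_coe, Matrix.map_add _ (map_add K.subtype),
        Matrix.map_one _ (map_zero _) (map_one _), add_mulVec, one_mulVec]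
      congr 1
      ext r
      simp [Matrix.mulVec, dotProduct, Matrix.single, Pi.single_apply, eq_comm]
      split_ifs <;> simp_all [eq_comm, apply_ite Subtype.val, ite_mul]
    exact Subgroup.mem_comap.2 (this ▸ hm)
  exact Subgroup.mem_comap.1 (show A ∈ P.comap θ by rw [htop]; exact Subgroup.mem_top A)

theorem linear_type (hC : Core P) (ht : HasTrv P) (G : Gauge (conjg T P) K μ a τ b)
    (hτ : τ ∈ K) : LinType P := by
  have hle := G.ratSL_le hτ
  have hsub : P ≤ (ratSL K).comap (MulAut.conj T).toMonoidHom := le_of_trv hC ht fun m hm u φ h0 hact => by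
    obtain ⟨h0', n, hn, e⟩ := tr_conjg T (⟨h0, m, hm, hact⟩ : Tr P u φ)
    have hy := tr_conjg T (⟨h0, m, hm, hact⟩ : Tr P u φ)
    set y := (T : Mat) *ᵥ u
    set d := φ ᵥ* ((T⁻¹ : GL3) : Mat)
    have hpar : ∀ (v ψ : Vec) (i : Fin 3), Tr (conjg T P) v ψ → axes μ a τ b i ⬝ᵥ v ≠ 0 → ψ i ≠ 0 →
        (ψ ⬝ᵥ y) * (d ⬝ᵥ v) ∈ K := fun v ψ i hv h1 h2 =>
      prod_mem G.pair (params_of_partner G.pair (G.root i) hv h1 (by rwa [dotProduct_single_one])) hy
    have hoff : ∀ i j, i ≠ j → y i * d j ∈ K := fun i j hij => by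
      have h1 := G.elementary hτ hij.symm (one_mem K)
      rw [one_smul] at h1
      have := hpar _ _ i h1 (by rw [dotProduct_single_one]; exact G.axes_ne hij) (by simp)
      simpa using this
    have hdiff : ∀ i j, y i * d i - y j * d j ∈ K := fun i j => by
      by_cases hij : i = j
      · simp [hij, zero_mem]
      obtain ⟨k, rfl⟩ : ∃ k, k = j := ⟨j, rfl⟩
      have h00 : (Pi.single i 1 - Pi.single k 1 : Vec) ⬝ᵥ (Pi.single i 1 + Pi.single k 1) = 0 := by
        simp [Pi.single_eq_of_ne hij, Pi.single_eq_of_ne (Ne.symm hij)]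
      have hact' : ∀ x : Vec, (trv (Pi.single i 1 + Pi.single k 1) (Pi.single i 1 - Pi.single k 1) h00 : GL3) *ᵥ x
          = x + ((Pi.single i 1 - Pi.single k 1 : Vec) ⬝ᵥ x) • (Pi.single i 1 + Pi.single k 1 : Vec) :=
        trv_mulVec _ _ h00
      have hv : Tr (conjg T P) (Pi.single i 1 + Pi.single k 1) (Pi.single i 1 - Pi.single k 1) :=
        ⟨h00, _, hle (mem_ratSL_of_outer h00 hact' fun r s => by
          simp only [Pi.add_apply, Pi.sub_apply, Pi.single_apply]
          split_ifs <;> simp_all [zero_mem, one_mem]), hact'⟩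
      have h1 := hpar _ _ i hv (by
          rw [dotProduct_add, dotProduct_single_one, dotProduct_single_one]
          have : axes μ a τ b i i = 0 := by fin_cases i <;> simp [axes]
          rw [this, zero_add]
          exact G.axes_ne hij) (by simp [Pi.single_eq_of_ne hij])
      simp only [sub_dotProduct, dotProduct_add, dotProduct_single_one, single_one_dotProduct] at h1
      have := add_mem (sub_mem h1 (hoff i k hij)) (hoff k i (Ne.symm hij))
      convert this using 1
      ring
    show T * m * T⁻¹ ∈ ratSL K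
    have hmn : T * m * T⁻¹ = n := Max.gl_ext fun x => by
      rw [e, Max.mulVec_mul_GL, Max.mulVec_mul_GL, hact, mulVec_add, mulVec_smul, Max.mulVec_inv_cancel,
        ← dotProduct_mulVec]
    rw [hmn]
    exact mem_ratSL_of_outer h0' e (outer_mem h0' hoff hdiff)
  refine ⟨K, T, fun x => ⟨fun hx => ⟨det_eq_one hC.le hx, (mem_ratSL.1 (hsub hx)).2⟩, fun ⟨hd, hK⟩ => ?_⟩⟩
  have h1 : T * x * T⁻¹ ∈ ratSL K := mem_ratSL.2 ⟨by
    rw [Units.val_mul, Units.val_mul, Matrix.det_units_conj, hd], hK⟩
  simpa [mul_assoc] using mem_conjg.1 (hle h1)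

end Cfsg.Agent.PSLThree.Trans
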