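import Mathlib
import Cfsg.Agent.Lib.Forms.Bases
import Cfsg.Agent.Lib.Forms.HermStd

/-!
# The quadratic extension of a subfield inside a finite field
-/

set_option autoImplicit false
set_option linter.unusedSectionVars false

namespace Cfsg.Agent.PSLThree.Trans

open Cfsg.Agent.Forms

variable {F : Type*} [Field F] [Fintype F] {p : ℕ} [Fact p.Prime] [CharP F p]

/-- the fixed points of the `β`-th Frobenius, as a subfield -/
def fixedField (p β : ℕ) [Fact p.Prime] [CharP F p] : Subfield F :=
  (iterateFrobenius F p β).eqLocusField (RingHom.id F)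

theorem mem_fixedField {β : ℕ} {x : F} : x ∈ fixedField (F := F) p β ↔ x ^ p ^ β = x := by
  show iterateFrobenius F p β x = RingHom.id F x ↔ _
  rw [iterateFrobenius_def, RingHom.id_apply]

theorem natCard_fixed_le {q : ℕ} (hq : 1 < q) : Nat.card {x : F // x ^ q = x} ≤ q := by
  classical
  have hne := FiniteField.X_pow_card_sub_X_ne_zero F hq
  rw [Nat.card_eq_fintype_card, Fintype.card_subtype]
  calc (Finset.univ.filter fun x : F => x ^ q = x).card
      ≤ (Polynomial.X ^ q - Polynomial.X : Polynomial F).roots.toFinset.card := by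
        refine Finset.card_le_card fun x hx => ?_
        rw [Multiset.mem_toFinset, Polynomial.mem_roots hne]
        simpa [sub_eq_zero] using hx
    _ ≤ _ := (Multiset.toFinset_card_le _).trans
        ((Polynomial.card_roots' _).trans (FiniteField.X_pow_card_sub_X_natDegree_eq F hq).le)

/-- a subfield with `p ^ β` elements is the fixed field of the `β`-th Frobenius -/
theorem mem_iff_fixed {K : Subfield F} {β : ℕ} (hβ : 0 < β) (hK : Nat.card K = p ^ β) {x : F} :
    x ∈ K ↔ x ^ p ^ β = x := by
  have h1 : ∀ y ∈ K, y ^ p ^ β = y := fun y hy => by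
    letI := Fintype.ofFinite K
    have := FiniteField.pow_card (⟨y, hy⟩ : K)
    rw [← Nat.card_eq_fintype_card, hK] at this
    exact congrArg Subtype.val this
  refine ⟨h1 x, fun hx => ?_⟩
  by_contra hxK
  let f : Option K → {y : F // y ^ p ^ β = y} := fun o => o.elim ⟨x, hx⟩ fun y => ⟨y, h1 y y.2⟩
  have hf : Function.Injective f := by
    rintro (_ | a) (_ | b) e
    · rfl
    · exact absurd (show x ∈ K by rw [show x = b from congrArg Subtype.val e]; exact b.2) hxK
    · exact absurd (show x ∈ K by rw [show x = a from (congrArg Subtype.val e).symm]; exact a.2) hxK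
    · exact congrArg some (Subtype.ext (congrArg Subtype.val e :))
  have hle := Nat.card_le_card_of_injective f hf
  rw [Finite.card_option, hK] at hle
  have := hle.trans (natCard_fixed_le (Nat.one_lt_pow hβ.ne' (Fact.out : p.Prime).one_lt))
  omega

/-- the facts about the conjugation of a quadratic element over `K` -/
theorem quad_facts {K : Subfield F} {β : ℕ} (hβ : 0 < β) (hK : Nat.card K = p ^ β) {τ : F} (hτ : τ ∉ K)
    {s : F} (hs : s ∈ K) (hn : τ * (s - τ) ∈ K) :
    τ ^ p ^ β = s - τ ∧ τ ∈ fixedField (F := F) p (2 * β) ∧ Nat.card (fixedField (F := F) p (2 * β)) = (p ^ β) ^ 2 := by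
  have hfix := fun x : F => mem_iff_fixed hβ hK (x := x)
  set σ := iterateFrobenius F p β with hσ
  have hσx : ∀ x, σ x = x ^ p ^ β := fun x => iterateFrobenius_def p β x
  have hσK : ∀ x ∈ K, σ x = x := fun x hx => by rw [hσx]; exact (hfix x).1 hx
  have hconj : σ τ = s - τ := by
    have h := hσK _ hn
    rw [map_mul, map_sub, hσK s hs] at h
    have h2 : (σ τ - τ) * (s - σ τ - τ) = 0 := by linear_combination h
    rcases mul_eq_zero.1 h2 with e | e
    · exact absurd ((hfix τ).2 (by rw [← hσx]; linear_combination e)) hτ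
    · linear_combination -e
  have htwo : ∀ x : F, x ∈ fixedField (F := F) p (2 * β) ↔ σ (σ x) = x := fun x => by
    rw [mem_fixedField, hσx, hσx, ← pow_mul, two_mul, pow_add]
  have hτL : τ ∈ fixedField (F := F) p (2 * β) := by
    rw [htwo, hconj, map_sub, hσK s hs, hconj]; ring
  refine ⟨by rw [← hσx]; exact hconj, hτL, le_antisymm ?_ ?_⟩
  · have := natCard_fixed_le (F := F) (q := p ^ (2 * β))
      (Nat.one_lt_pow (by omega) (Fact.out : p.Prime).one_lt)
    rw [← pow_mul, mul_comm β 2]
    refine le_trans (le_of_eq ?_) this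
    exact Nat.card_congr (Equiv.subtypeEquivRight fun x => mem_fixedField)
  · have hKL : ∀ x ∈ K, x ∈ fixedField (F := F) p (2 * β) := fun x hx => by
      rw [htwo, hσK x hx, hσK x hx]
    let f : K × K → fixedField (F := F) p (2 * β) := fun u =>
      ⟨u.1 + u.2 * τ, add_mem (hKL _ u.1.2) (mul_mem (hKL _ u.2.2) hτL)⟩
    have hf : Function.Injective f := by
      rintro ⟨a, b⟩ ⟨c, d⟩ e
      have e' : (a : F) + b * τ = c + d * τ := congrArg Subtype.val e
      have hbd : (b : F) = d := by
        by_contra hne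
        refine hτ ?_
        have := K.div_mem (sub_mem c.2 a.2) (sub_mem b.2 d.2)
        rwa [show (c : F) - a = (b - d) * τ by linear_combination -e', mul_div_cancel_left₀ _ (sub_ne_zero.2 hne)] at this
      exact Prod.ext (Subtype.ext (by rw [hbd] at e'; exact add_right_cancel e')) (Subtype.ext hbd)
    have := Nat.card_le_card_of_injective f hf
    rwa [Nat.card_prod, hK, ← sq] at this

theorem exists_prime_pow_card (K : Subfield F) (p : ℕ) [Fact p.Prime] [CharP F p] :
    ∃ β, 0 < β ∧ Nat.card K = p ^ β := by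
  letI := Fintype.ofFinite K
  obtain ⟨n, -, hn⟩ := FiniteField.card K p
  exact ⟨n, n.2, by rw [Nat.card_eq_fintype_card, hn]⟩

/-- an element of norm `-1` and one of norm one which is no square root of one -/
theorem exists_etas {L : Type*} [Field L] [Fintype L] {q : ℕ} (hL : Fintype.card L = q ^ 2)
    (hq3 : 3 ≤ q) : ∃ η ζ : L, η ^ (q + 1) = -1 ∧ ζ ^ (q + 1) = 1 ∧ ζ ^ 2 ≠ 1 := by
  obtain ⟨g, hg⟩ := IsCyclic.exists_generator (α := Lˣ)
  have ho : orderOf g = q ^ 2 - 1 := by
    rw [orderOf_eq_card_of_forall_mem_zpowers hg, Nat.card_units, Nat.card_eq_fintype_card, hL]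
  obtain ⟨k, rfl⟩ : ∃ k, q = k + 1 := ⟨q - 1, by omega⟩
  have e1 : (k + 1) ^ 2 - 1 = k * (k + 2) := by ring_nf; omega
  rw [e1] at ho
  obtain ⟨c, hc⟩ := Bases.exists_norm_eq (HermStd.qHom hL) (HermStd.qHom_ne_id hL) (HermStd.qHom_qHom hL) (-1)
    (by rw [map_neg, map_one])
  refine ⟨c, ((g ^ k : Lˣ) : L), by rw [pow_succ]; exact hc, ?_, fun h => ?_⟩
  · rw [← Units.val_pow_eq_pow_val, ← pow_mul, show k * (k + 1 + 1) = k * (k + 2) by ring,
      ← ho, pow_orderOf_eq_one, Units.val_one]
  · rw [← Units.val_pow_eq_pow_val, Units.val_eq_one, ← pow_mul, ← orderOf_dvd_iff_pow_eq_one, ho] at h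
    have := Nat.le_of_dvd (by omega) h
    nlinarith

end Cfsg.Agent.PSLThree.Trans
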