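import Mathlib
import Cfsg.Agent.Lib.Forms.DicksonUni
import Cfsg.Agent.Lib.Forms.DicksonMax

/-!
# Two opposite transvections of `SL₂(F)` in odd characteristic

The coefficients of either root group form a subfield (after scaling), unless the group is the
icosahedral group in characteristic three, in which case the product of the coefficients squares to `-1`.
-/

set_option autoImplicit false
set_option linter.unusedSectionVars false

namespace Cfsg.Agent.PSLThree.Trans

open Matrix MulAction
open scoped MatrixGroups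
open Cfsg.Agent.Forms

variable {F : Type*} [Field F] [Fintype F]

local notation "M2" => Matrix (Fin 2) (Fin 2) F

set_option synthInstance.maxSize 4000 in
set_option synthInstance.maxHeartbeats 100000 in
theorem alt5_cent : ∀ g : alternatingGroup (Fin 5), g * g * g = 1 → g ≠ 1 → ∀ h : alternatingGroup (Fin 5), h * h * h = 1 →
    g * h = h * g → h = 1 ∨ h = g ∨ h = g * g := by
  decide +kernel

theorem alt5_order : ∀ g : alternatingGroup (Fin 5), g ^ 2 = 1 ∨ g ^ 3 = 1 ∨ g ^ 5 = 1 := by
  decide +kernel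

theorem pow_five {X : M2} (hd : X.det = 1) :
    X ^ 5 = (X.trace ^ 4 - 3 * X.trace ^ 2 + 1) • X - (X.trace ^ 3 - 2 * X.trace) • 1 := by
  have h2 : X * X = X.trace • X - 1 := by
    rw [det_fin_two] at hd
    ext i j
    fin_cases i <;> fin_cases j <;> simp [Matrix.mul_apply, Fin.sum_univ_two, trace_fin_two] <;>
      first | linear_combination hd | linear_combination -hd | ring
  simp only [pow_succ, pow_zero, one_mul, h2, sub_mul, mul_sub, smul_mul_assoc, mul_smul_comm, smul_sub,
    smul_smul, mul_one]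
  module

variable (p : ℕ) [hp : Fact p.Prime] [CharP F p]

/-- traces in a group whose image is icosahedral -/
theorem trace_alt5 (h3 : (3 : F) = 0) {X : SL(2, F)} {H : Subgroup (Matrix.ProjectiveSpecialLinearGroup (Fin 2) F)}
    (hX : KleinPSL.pi F X ∈ H) (e : H ≃* alternatingGroup (Fin 5)) :
    (X : M2).trace = 0 ∨ (X : M2).trace ^ 2 = 1 ∨ (X : M2).trace ^ 4 + 1 = 0 := by
  set t := (X : M2).trace with ht
  by_cases h1 : KleinPSL.pi F X = 1
  · right; left
    rcases KleinPSL.pi_eq_one.1 h1 with rfl | rfl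
    · rw [ht, Matrix.SpecialLinearGroup.coe_one, trace_fin_two, Matrix.one_apply_eq, Matrix.one_apply_eq]
      linear_combination h3
    · rw [ht, Matrix.SpecialLinearGroup.coe_neg, Matrix.SpecialLinearGroup.coe_one, trace_fin_two,
        Matrix.neg_apply, Matrix.neg_apply, Matrix.one_apply_eq, Matrix.one_apply_eq]
      linear_combination h3
  have hd : (X : M2).det = 1 := X.2
  have hs : (X : M2) * X = t • (X : M2) - 1 := DicksonAction.sq_eq_trace X
  have hscal : ∀ a b : F, a • (X : M2) = b • (1 : M2) → a = 0 := fun a b hab => by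
    by_contra ha
    refine h1 (KleinPSL.pi_eq_one.2 ?_)
    have hXs : (X : M2) = (a⁻¹ * b) • (1 : M2) := by rw [← smul_smul, ← hab, inv_smul_smul₀ ha]
    have hd' := hd
    rw [hXs, det_smul, det_one, mul_one, Fintype.card_fin, pow_two] at hd'
    rcases mul_self_eq_one_iff.1 hd' with e' | e'
    · left; exact Subtype.ext (by rw [hXs, e', one_smul]; rfl)
    · right; exact Subtype.ext (by rw [hXs, e', neg_one_smul, Matrix.SpecialLinearGroup.coe_neg]; rfl)
  have hpw : ∀ n : ℕ, (⟨_, hX⟩ : H) ^ n = 1 → ∃ c : F, (X : M2) ^ n = c • (1 : M2) := fun n hn => by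
    have h := congrArg Subtype.val hn
    simp only [SubmonoidClass.coe_pow, OneMemClass.coe_one, ← map_pow] at h
    rcases KleinPSL.pi_eq_one.1 h with h' | h' <;> have h'' := congrArg Subtype.val h'
    · exact ⟨1, by simpa using h''⟩
    · exact ⟨-1, by simpa using h''⟩
  rcases alt5_order (e ⟨_, hX⟩) with h | h | h <;> rw [← map_pow, ← map_one e] at h <;>
    obtain ⟨c, hc⟩ := hpw _ (e.injective h)
  · left
    rw [pow_two, hs, sub_eq_iff_eq_add] at hc
    exact hscal t (c + 1) (by rw [hc, add_smul, one_smul])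
  · right; left
    have hc' : (t * t - 1) • (X : M2) = (c + t) • (1 : M2) := by
      rw [pow_three, hs, mul_sub, mul_one, mul_smul_comm, hs, smul_sub, smul_smul] at hc
      rw [add_smul, ← hc, sub_smul, one_smul]
      module
    linear_combination hscal _ _ hc'
  · right; right
    rw [pow_five hd, ← ht, sub_eq_iff_eq_add, ← add_smul] at hc
    linear_combination hscal _ _ hc + t ^ 2 * h3

omit [Fintype F] hp [CharP F p] in
theorem sq_add_one_of_traces (h3 : (3 : F) = 0) (x : F)
    (h1 : 2 + x = 0 ∨ (2 + x) ^ 2 = 1 ∨ (2 + x) ^ 4 + 1 = 0)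
    (h2 : 2 - x = 0 ∨ (2 - x) ^ 2 = 1 ∨ (2 - x) ^ 4 + 1 = 0) : x = 0 ∨ x = 1 ∨ x = -1 ∨ x * x = -1 := by
  by_cases hx : x = 0
  · exact Or.inl hx
  right
  rcases h1 with h | h | h
  · left; linear_combination h - h3
  · rcases mul_eq_zero.1 (show (2 + x - 1) * (2 + x + 1) = 0 by linear_combination h) with e | e
    · right; left; linear_combination e
    · exact absurd (show x = 0 by linear_combination e - h3) hx
  rcases h2 with h' | h' | h'
  · right; left; linear_combination -h' + h3
  · rcases mul_eq_zero.1 (show (2 - x - 1) * (2 - x + 1) = 0 by linear_combination h') with e | e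
    · left; linear_combination -e
    · exact absurd (show x = 0 by linear_combination -e + h3) hx
  · right; right
    have hk : x * (x * x + 1) = 0 := by
      linear_combination (2 : F)⁻¹ * 0 + h - h' - (21 * x + 5 * x ^ 3) * h3
    linear_combination (mul_eq_zero.1 hk).resolve_left hx

/-- the two root groups -/
theorem two (hp2 : p ≠ 2) (G : Subgroup SL(2, F)) {b : F}
    (hup : Classical.GL2.uniSL 1 ∈ G) (hb : b ≠ 0) (hlow : Classical.GL2.lowSL b ∈ G) :
    (∃ S : Subfield F, b ∈ S ∧ (∀ c, Classical.GL2.uniSL c ∈ G ↔ c ∈ S) ∧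
      ∀ c, Classical.GL2.lowSL c ∈ G ↔ c ∈ S) ∨
    ((3 : F) = 0 ∧ b * b = -1 ∧ (∀ c, Classical.GL2.uniSL c ∈ G → c = 0 ∨ c = 1 ∨ c = -1) ∧
      ∀ c, Classical.GL2.lowSL c ∈ G → c = 0 ∨ c = b ∨ c = -b) := by
  classical
  have h20 : (2 : F) ≠ 0 := Ring.two_ne_zero (by rw [ringChar.eq F p]; exact hp2)
  set H := G.map (KleinPSL.pi F) with hH
  have hT := DicksonAction.twoPt (F := F) p
  have hTH := hT.subgroup H
  have hpiu : ∀ a : F, KleinPSL.pi F (Classical.GL2.uniSL a) = 1 → a = 0 := fun a h => by
    rcases KleinPSL.pi_eq_one.1 h with h | h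
    · simpa [Classical.GL2.coe_uniSL] using congrFun (congrFun (congrArg Subtype.val h) 0) 1
    · simpa [Classical.GL2.coe_uniSL] using congrFun (congrFun (congrArg Subtype.val h) 0) 1
  have hpil : ∀ a : F, KleinPSL.pi F (Classical.GL2.lowSL a) = 1 → a = 0 := fun a h => by
    rcases KleinPSL.pi_eq_one.1 h with h | h
    · simpa [Classical.GL2.coe_lowSL] using congrFun (congrFun (congrArg Subtype.val h) 1) 0
    · simpa [Classical.GL2.coe_lowSL] using congrFun (congrFun (congrArg Subtype.val h) 1) 0
  have hord : ∀ X : SL(2, F), (X : M2).trace = 2 → KleinPSL.pi F X ≠ 1 → orderOf (KleinPSL.pi F X) = p :=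
    fun X ht hX => (DicksonAction.orderOf_iff p X hX).2 (by rw [ht]; norm_num)
  set u := KleinPSL.pi F (Classical.GL2.uniSL (1 : F)) with hu
  set v := KleinPSL.pi F (Classical.GL2.lowSL b) with hv
  have hu1 : u ≠ 1 := fun e => one_ne_zero (hpiu _ e)
  have hv1 : v ≠ 1 := fun e => hb (hpil _ e)
  have hou : orderOf u = p := hord _ (by simp [Classical.GL2.coe_uniSL, trace_fin_two]; norm_num) hu1
  have hov : orderOf v = p := hord _ (by simp [Classical.GL2.coe_lowSL, trace_fin_two]; norm_num) hv1
  have huH : u ∈ H := ⟨_, hup, rfl⟩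
  have hvH : v ∈ H := ⟨_, hlow, rfl⟩
  have huv : u * v ≠ v * u := fun e => by
    rw [hu, hv, ← map_mul, ← map_mul, KleinPSL.pi_eq_iff] at e
    rcases e with e | e
    · have := congrFun (congrFun (congrArg Subtype.val e) 0) 0
      simp [Classical.GL2.coe_uniSL, Classical.GL2.coe_lowSL, Matrix.mul_apply, Fin.sum_univ_two] at this
      exact hb this
    · have h01 := congrFun (congrFun (congrArg Subtype.val e) 0) 1
      simp [Classical.GL2.coe_uniSL, Classical.GL2.coe_lowSL, Matrix.mul_apply, Fin.sum_univ_two] at h01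
      exact h20 (by linear_combination h01)
  have hpu : u ^ p = 1 := by rw [← hou, pow_orderOf_eq_one]
  have hpv : v ^ p = 1 := by rw [← hov, pow_orderOf_eq_one]
  have hneg : ∀ (X : SL(2, F)), (X : M2).trace = 2 → -X ∈ G → X ^ p = 1 → X ∈ G := fun X _ hX hXp => by
    have h1 : (-X) ^ p = -1 := by rw [(Fact.out : p.Prime).odd_of_ne_two hp2 |>.neg_pow, hXp]
    have h2 := mul_mem (G.pow_mem hX p) hX
    rw [h1, neg_mul, one_mul, neg_neg] at h2
    exact h2
  rcases DicksonModular.classify_modular hTH (u := (⟨u, huH⟩ : H))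
      (by rw [← Subgroup.orderOf_coe]; exact hou) with ⟨x, -, hfix⟩ | ⟨c, -, hc, ⟨e⟩⟩ | ⟨hp3, ⟨e⟩⟩ | ⟨x, htr⟩
  · exact absurd (DicksonMax.comm_of_fix p (hfix ⟨u, huH⟩) (hfix ⟨v, hvH⟩) hpu hpv) huv
  · exfalso
    exact huv (DicksonMax.comm_of_dihedral H (g := (c : Matrix.ProjectiveSpecialLinearGroup (Fin 2) F))
        (Or.inr ⟨by rw [Subgroup.orderOf_coe]; exact e⟩) huH hvH
        (DicksonMax.sq_ne_one (Fact.out) hp2 hpu hu1) (DicksonMax.sq_ne_one (Fact.out) hp2 hpv hv1))
  · -- icosahedral
    have h3 : (3 : F) = 0 := by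
      have := CharP.cast_eq_zero F p
      rwa [hp3, Nat.cast_ofNat] at this
    have hcoef : ∀ (R : F → SL(2, F)) (a : F), a ≠ 0 → R a ∈ G → (∀ z, KleinPSL.pi F (R z) = 1 → z = 0) →
        (∀ z w, R (z + w) = R z * R w) → ∀ c, R c ∈ G → c = 0 ∨ c = a ∨ c = -a := by
      intro R a ha hRa hker hadd c hc
      have h0 : R 0 = 1 := by simpa using hadd 0 0
      let g : H := ⟨_, ⟨_, hRa, rfl⟩⟩
      let k : H := ⟨_, ⟨_, hc, rfl⟩⟩
      have hcube : ∀ z, KleinPSL.pi F (R z) * KleinPSL.pi F (R z) * KleinPSL.pi F (R z) = 1 := fun z => by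
        rw [← map_mul, ← map_mul, ← hadd, ← hadd, show z + z + z = 3 * z by ring, h3, zero_mul, h0, map_one]
      have hinj : ∀ z w, KleinPSL.pi F (R z) = KleinPSL.pi F (R w) → z = w := fun z w h => by
        refine sub_eq_zero.1 (hker _ (mul_right_cancel (b := KleinPSL.pi F (R w)) ?_))
        rw [← map_mul, ← hadd, sub_add_cancel, one_mul, h]
      rcases alt5_cent (e g) (by rw [← map_mul, ← map_mul, ← map_one e]; exact congrArg e (Subtype.ext (hcube a)))
          (fun h => ha (hker _ (congrArg Subtype.val (e.map_eq_one_iff.1 h)))) (e k)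
          (by rw [← map_mul, ← map_mul, ← map_one e]; exact congrArg e (Subtype.ext (hcube c)))
          (by rw [← map_mul, ← map_mul]; exact congrArg e (Subtype.ext (by
            show KleinPSL.pi F (R a) * KleinPSL.pi F (R c) = KleinPSL.pi F (R c) * KleinPSL.pi F (R a)
            rw [← map_mul, ← map_mul, ← hadd, ← hadd, add_comm]))) with h | h | h
      · exact Or.inl (hker _ (congrArg Subtype.val (e.map_eq_one_iff.1 h)))
      · exact Or.inr (Or.inl (hinj _ _ (congrArg Subtype.val (e.injective h))))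
      · refine Or.inr (Or.inr ((hinj _ _ ?_).trans (show a + a = -a by linear_combination a * h3)))
        rw [← map_mul] at h
        have := congrArg Subtype.val (e.injective h)
        rw [hadd, map_mul]
        exact this
    have huc := hcoef Classical.GL2.uniSL 1 one_ne_zero hup hpiu fun z w => Subtype.ext (by
      simp [Classical.GL2.coe_uniSL, Matrix.mul_fin_two, add_comm])
    have hlc := hcoef Classical.GL2.lowSL b hb hlow hpil fun z w => Subtype.ext (by
      simp [Classical.GL2.coe_lowSL, Matrix.mul_fin_two])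
    have ht1 := trace_alt5 h3 (X := Classical.GL2.uniSL 1 * Classical.GL2.lowSL b)
      (show KleinPSL.pi F _ ∈ H from ⟨_, mul_mem hup hlow, rfl⟩) e
    have ht2 := trace_alt5 h3 (X := Classical.GL2.uniSL 1 * (Classical.GL2.lowSL b)⁻¹)
      (show KleinPSL.pi F _ ∈ H from ⟨_, mul_mem hup (inv_mem hlow), rfl⟩) e
    have k1 : ((Classical.GL2.uniSL 1 * Classical.GL2.lowSL b : SL(2, F)) : M2).trace = 2 + b := by
      simp [Classical.GL2.coe_uniSL, Classical.GL2.coe_lowSL, Matrix.mul_fin_two, trace_fin_two]; ring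
    have k2 : ((Classical.GL2.uniSL 1 * (Classical.GL2.lowSL b)⁻¹ : SL(2, F)) : M2).trace = 2 - b := by
      simp [Classical.GL2.coe_uniSL, Classical.GL2.coe_lowSL, Matrix.adjugate_fin_two, Matrix.mul_fin_two,
        trace_fin_two, Matrix.SpecialLinearGroup.coe_inv]; ring
    rw [k1] at ht1
    rw [k2] at ht2
    rcases sq_add_one_of_traces h3 b ht1 ht2 with
      h | h | h | h
    · exact absurd h hb
    all_goals first | exact Or.inr ⟨h3, h, huc, hlc⟩ | skip
    all_goals
      left
      refine ⟨(ZMod.castHom (dvd_refl p) F).fieldRange, ?_, fun c => ⟨fun hc => ?_, fun hc => ?_⟩,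
        fun c => ⟨fun hc => ?_, fun hc => ?_⟩⟩
      · rw [h]; first | exact one_mem _ | exact neg_mem (one_mem _)
      · rcases huc c hc with rfl | rfl | rfl <;> simp [one_mem, zero_mem]
      · obtain ⟨z, rfl⟩ := hc
        rw [← ZMod.natCast_zmod_val z, map_natCast]
        induction z.val with
        | zero => rw [Nat.cast_zero, Classical.GL2.uniSL_zero]; exact one_mem _
        | succ i ih =>
          rw [Nat.cast_succ]
          convert mul_mem ih hup using 1
          exact Subtype.ext (by simp [Classical.GL2.coe_uniSL, Matrix.mul_fin_two, add_comm])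
      · rcases hlc c hc with rfl | rfl | rfl <;> simp [h, one_mem, zero_mem]
      · obtain ⟨z, rfl⟩ := hc
        rw [← mul_one ((ZMod.castHom (dvd_refl p) F) z), ← ZMod.natCast_zmod_val z, map_natCast]
        have hone : Classical.GL2.lowSL (1 : F) ∈ G := by
          rcases (show b = 1 ∨ b = -1 by first | exact Or.inl h | exact Or.inr h) with h' | h'
          · exact h' ▸ hlow
          · convert inv_mem hlow using 1
            exact Subtype.ext (by
              simp [h', Classical.GL2.coe_lowSL, Matrix.adjugate_fin_two, Matrix.SpecialLinearGroup.coe_inv])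
        induction z.val with
        | zero =>
          convert one_mem G using 1
          exact Subtype.ext (by simp [Classical.GL2.coe_lowSL, Matrix.one_fin_two])
        | succ i ih =>
          convert mul_mem ih hone using 1
          exact Subtype.ext (by simp [Classical.GL2.coe_lowSL, Matrix.mul_fin_two])
  · -- subfield
    left
    obtain ⟨K, iK, fK, m, f, γ, hm, hlo, hhi⟩ := DicksonField.transitive_embedding p _ htr
    have hK2 : (2 : K) ≠ 0 := fun h => h20 (by rw [← map_ofNat f 2, h, map_zero])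
    -- rational conjugates
    have hrat : ∀ X ∈ G, (X : M2).trace = 2 → ∀ i j,
        ((γ : M2) * (X : M2) * ((γ⁻¹ : GL (Fin 2) F) : M2)) i j ∈ f.fieldRange := by
      intro X hX hXt i j
      obtain ⟨k, hk⟩ := hhi ⟨_, ⟨_, ⟨_, hX, rfl⟩, rfl⟩, rfl⟩
      obtain ⟨g, rfl⟩ := Matrix.ProjGenLinGroup.mk_surjective k
      set T : GL (Fin 2) F := γ * Matrix.SpecialLinearGroup.toGL X * γ⁻¹ with hTdef
      have hk' : Matrix.ProjGenLinGroup.mk (GeneralLinearGroup.map f g) = Matrix.ProjGenLinGroup.mk T := by
        rw [← DicksonField.pglMap_mk, hk]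
        simp [hTdef, Matrix.ProjectiveSpecialLinearGroup.toPGL_mk, KleinPSL.pi]
      obtain ⟨s, hs⟩ : ∃ s : Fˣ, GeneralLinearGroup.scalar (Fin 2) s = (GeneralLinearGroup.map f g)⁻¹ * T := by
        have e : (GeneralLinearGroup.map f g)⁻¹ * T ∈ Subgroup.center (GL (Fin 2) F) := by
          rw [← Matrix.ProjGenLinGroup.mk_eq_one, map_mul, map_inv, hk', inv_mul_cancel]
        rw [GeneralLinearGroup.center_eq_range_scalar] at e
        exact e
      have hval : ∀ i j, (T : M2) i j = f ((g : Matrix (Fin 2) (Fin 2) K) i j) * (s : F) := by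
        intro i j
        rw [show T = GeneralLinearGroup.map f g * GeneralLinearGroup.scalar (Fin 2) s by rw [hs, mul_inv_cancel_left]]
        simp [Matrix.mul_apply, Fin.sum_univ_two]
        fin_cases j <;> simp
      have htrT : (T : M2).trace = 2 := by
        rw [hTdef, Units.val_mul, Matrix.trace_mul_comm, ← Units.val_mul, ← mul_assoc, inv_mul_cancel, one_mul]
        simpa using hXt
      have hs' : (s : F) ∈ f.fieldRange := by
        rw [trace_fin_two, hval, hval, ← add_mul, ← map_add] at htrT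
        refine ⟨2 / (g.val 0 0 + g.val 1 1), ?_⟩
        rw [map_div₀, map_ofNat, div_eq_iff (fun e => h20 (by rw [← htrT, e, zero_mul]))]
        linear_combination -htrT
      show (T : M2) i j ∈ _
      rw [hval]
      exact mul_mem ⟨_, rfl⟩ hs'
    -- rational matrices lie in the group
    have hmem : ∀ X : SL(2, F), (X : M2).trace = 2 → X ^ p = 1 →
        (∀ i j, ((γ : M2) * (X : M2) * ((γ⁻¹ : GL (Fin 2) F) : M2)) i j ∈ f.fieldRange) → X ∈ G := by
      intro X ht hXp hr
      choose R hR using hr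
      have hT' : ((γ : M2) * (X : M2) * ((γ⁻¹ : GL (Fin 2) F) : M2)) = (Matrix.of R).map f := by
        ext i j; exact (hR i j).symm
      have hdetR : (Matrix.of R).det = 1 := by
        refine f.injective ?_
        rw [RingHom.map_det, RingHom.mapMatrix_apply, ← hT', Matrix.det_units_conj, X.2, map_one]
      obtain ⟨Rs, hRs⟩ : ∃ Rs : SL(2, K), (Rs : Matrix (Fin 2) (Fin 2) K) = Matrix.of R := ⟨⟨_, hdetR⟩, rfl⟩
      obtain ⟨_, ⟨h', ⟨Y, hY, rfl⟩, rfl⟩, hYe⟩ :=
        hlo ⟨_, ⟨KleinPSL.pi K Rs, rfl⟩, rfl⟩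
      have hk : Matrix.ProjGenLinGroup.mk (γ * Matrix.SpecialLinearGroup.toGL Y * γ⁻¹) =
          Matrix.ProjGenLinGroup.mk (γ * Matrix.SpecialLinearGroup.toGL X * γ⁻¹) := by
        have e1 : GeneralLinearGroup.map f (Matrix.SpecialLinearGroup.toGL Rs) =
            γ * Matrix.SpecialLinearGroup.toGL X * γ⁻¹ := Units.ext (by
          show (Rs : Matrix (Fin 2) (Fin 2) K).map f = _
          rw [hRs, ← hT']; rfl)
        rw [← e1, ← DicksonField.pglMap_mk]
        refine Eq.trans ?_ (hYe.trans ?_)
        · simp [Matrix.ProjectiveSpecialLinearGroup.toPGL_mk, KleinPSL.pi]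
        · simp [Matrix.ProjectiveSpecialLinearGroup.toPGL_mk, KleinPSL.pi]
      have hpi : KleinPSL.pi F Y = KleinPSL.pi F X := by
        refine Matrix.ProjectiveSpecialLinearGroup.toPGL_injective ?_
        rw [map_mul, map_mul, map_mul, map_mul, map_inv, mul_left_inj, mul_right_inj] at hk
        exact hk
      rcases KleinPSL.pi_eq_iff.1 hpi with rfl | rfl
      · exact hY
      · exact hneg X ht hY hXp
    set N := (γ : M2) * !![0, 1; 0, 0] * ((γ⁻¹ : GL (Fin 2) F) : M2) with hN
    set N' := (γ : M2) * !![0, 0; 1, 0] * ((γ⁻¹ : GL (Fin 2) F) : M2) with hN'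
    have hTN : ∀ a, (γ : M2) * (Classical.GL2.uniSL a : SL(2, F)) * ((γ⁻¹ : GL (Fin 2) F) : M2) = 1 + a • N := by
      intro a
      have e : ((Classical.GL2.uniSL a : SL(2, F)) : M2) = 1 + a • !![0, 1; 0, 0] := by
        rw [Classical.GL2.coe_uniSL]; ext i j; fin_cases i <;> fin_cases j <;> simp
      rw [e, mul_add, add_mul, mul_one, Matrix.mul_smul, Matrix.smul_mul, Units.mul_inv]
    have hTN' : ∀ a, (γ : M2) * (Classical.GL2.lowSL a : SL(2, F)) * ((γ⁻¹ : GL (Fin 2) F) : M2) = 1 + a • N' := by
      intro a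
      have e : ((Classical.GL2.lowSL a : SL(2, F)) : M2) = 1 + a • !![0, 0; 1, 0] := by
        rw [Classical.GL2.coe_lowSL]; ext i j; fin_cases i <;> fin_cases j <;> simp
      rw [e, mul_add, add_mul, mul_one, Matrix.mul_smul, Matrix.smul_mul, Units.mul_inv]
    have hone : ∀ i j, (1 : M2) i j ∈ f.fieldRange := fun i j => by
      rw [Matrix.one_apply]; split_ifs <;> simp [one_mem, zero_mem]
    have hNm : ∀ a, Classical.GL2.uniSL a ∈ G → ∀ i j, a * N i j ∈ f.fieldRange := fun a ha i j => by
      have := hrat _ ha (by simp [Classical.GL2.coe_uniSL, trace_fin_two]; norm_num) i j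
      rw [hTN, Matrix.add_apply, Matrix.smul_apply, smul_eq_mul] at this
      simpa using sub_mem this (hone i j)
    have hN'm : ∀ a, Classical.GL2.lowSL a ∈ G → ∀ i j, a * N' i j ∈ f.fieldRange := fun a ha i j => by
      have := hrat _ ha (by simp [Classical.GL2.coe_lowSL, trace_fin_two]; norm_num) i j
      rw [hTN', Matrix.add_apply, Matrix.smul_apply, smul_eq_mul] at this
      simpa using sub_mem this (hone i j)
    have hN1 : ∀ i j, N i j ∈ f.fieldRange := fun i j => by simpa using hNm 1 hup i j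
    have hNne : N ≠ 0 := fun h0 => by
      have := congrArg (fun X => ((γ⁻¹ : GL (Fin 2) F) : M2) * X * (γ : M2)) h0
      simp only [hN, ← Matrix.mul_assoc, Units.inv_mul, Matrix.one_mul, mul_zero, zero_mul] at this
      rw [Matrix.mul_assoc, Units.inv_mul, Matrix.mul_one] at this
      simpa using congrFun (congrFun this 0) 1
    have htr1 : (N * N').trace = 1 := by
      have e1 : N * N' = (γ : M2) * (!![0, 1; 0, 0] * !![0, 0; 1, 0]) * ((γ⁻¹ : GL (Fin 2) F) : M2) := by
        simp only [hN, hN', Matrix.mul_assoc]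
        rw [← Matrix.mul_assoc ((γ⁻¹ : GL (Fin 2) F) : M2) (γ : M2), Units.inv_mul, Matrix.one_mul]
      rw [e1, Matrix.trace_mul_comm, ← Matrix.mul_assoc, Units.inv_mul, Matrix.one_mul]
      simp [trace_fin_two]
    have hlowS : ∀ a, Classical.GL2.lowSL a ∈ G → a ∈ f.fieldRange := fun a ha => by
      rw [← mul_one a, ← htr1, Matrix.trace, Finset.mul_sum]
      refine sum_mem fun k _ => ?_
      rw [Matrix.diag_apply, Matrix.mul_apply, Finset.mul_sum]
      refine sum_mem fun l _ => ?_
      rw [mul_left_comm]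
      exact mul_mem (hN1 k l) (hN'm a ha l k)
    have hbS := hlowS b hlow
    have hN'1 : ∀ i j, N' i j ∈ f.fieldRange := fun i j => by
      have := f.fieldRange.div_mem (hN'm b hlow i j) hbS
      rwa [mul_div_cancel_left₀ _ hb] at this
    refine ⟨f.fieldRange, hbS, fun c => ⟨fun hc => ?_, fun hc => ?_⟩, fun c => ⟨hlowS c, fun hc => ?_⟩⟩
    · obtain ⟨i, j, hij⟩ : ∃ i j, N i j ≠ 0 := by
        by_contra hcon
        push Not at hcon
        exact hNne (Matrix.ext hcon)
      have := f.fieldRange.div_mem (hNm c hc i j) (hN1 i j)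
      rwa [mul_div_cancel_right₀ _ hij] at this
    · refine hmem _ (by simp [Classical.GL2.coe_uniSL, trace_fin_two]; norm_num) ?_ fun i j => ?_
      · have := (Classical.GL2.uniHom F).map_pow (Multiplicative.ofAdd c) p
        rw [← ofAdd_nsmul, nsmul_eq_mul, CharP.cast_eq_zero, zero_mul, ofAdd_zero, map_one] at this
        exact this.symm
      · rw [hTN, Matrix.add_apply, Matrix.smul_apply, smul_eq_mul]
        exact add_mem (hone i j) (mul_mem hc (hN1 i j))
    · refine hmem _ (by simp [Classical.GL2.coe_lowSL, trace_fin_two]; norm_num) ?_ fun i j => ?_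
      · refine Subtype.ext ?_
        rw [Matrix.SpecialLinearGroup.coe_pow, Classical.GL2.coe_lowSL,
          show (!![1, 0; c, 1] : M2) = 1 + c • !![0, 0; 1, 0] by ext i j; fin_cases i <;> fin_cases j <;> simp,
          add_pow_char_of_commute (p := p) (Commute.one_left _), one_pow, smul_pow,
          show (!![0, 0; 1, 0] : M2) ^ p = 0 by
            rw [show p = 2 + (p - 2) by have := (Fact.out : p.Prime).two_le; omega, pow_add,
              show (!![0, 0; 1, 0] : M2) ^ 2 = 0 by ext i j; fin_cases i <;> fin_cases j <;> simp [pow_two, Matrix.mul_apply, Fin.sum_univ_two],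
              zero_mul]]
        simp
      · rw [hTN', Matrix.add_apply, Matrix.smul_apply, smul_eq_mul]
        exact add_mem (hone i j) (mul_mem hc (hN'1 i j))

end Cfsg.Agent.PSLThree.Trans
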