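import Mathlib
import Cfsg.Agent.Lib.Forms.Bases
import Cfsg.Agent.Lib.Forms.HermStd
import Cfsg.Agent.Lib.PSLThree.Trans.Frame
import Cfsg.Agent.Lib.PSLThree.Trans.QuadField

/-!
# The irrational triangle in orthonormal coordinates
-/

set_option autoImplicit false
set_option linter.unusedSectionVars false

namespace Cfsg.Agent.PSLThree.Trans

open Matrix Cfsg.Agent.Forms
open Cfsg.Agent.Forms.Max.SL3.Singer

variable {F : Type*} [Field F] [Fintype F]

/-- the coefficient inclusion on vectors -/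
def incl {L : Subfield F} (v : Fin 3 → L) : Fin 3 → F := fun i => (v i : F)

/-- the conjugate row of a vector -/
def brow {L : Subfield F} (q : ℕ) (v : Fin 3 → L) : Fin 3 → F := fun i => (v i : F) ^ q

theorem map_mulVec_incl {L : Subfield F} (g : GL (Fin 3) L) (v : Fin 3 → L) :
    (GeneralLinearGroup.map L.subtype g : Matrix (Fin 3) (Fin 3) F) *ᵥ incl v =
      incl ((g : Matrix (Fin 3) (Fin 3) L) *ᵥ v) := by
  ext i
  exact (RingHom.map_mulVec L.subtype (g : Matrix (Fin 3) (Fin 3) L) v i).symm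

/-- an orthonormal basis for a hermitian matrix -/
theorem exists_coords {L : Type*} [Field L] [Fintype L] {q : ℕ} (hL : Fintype.card L = q ^ 2)
    {H : Matrix (Fin 3) (Fin 3) L} (hH : ∀ i j, H j i ^ q = H i j) (hdet : H.det ≠ 0) :
    ∃ Y : GL (Fin 3) L, ∀ ξ η : Fin 3 → L,
      (fun i => ((Y : Matrix (Fin 3) (Fin 3) L) *ᵥ η) i ^ q) ⬝ᵥ (H *ᵥ ((Y : Matrix (Fin 3) (Fin 3) L) *ᵥ ξ)) =
        Cfsg.hermForm 3 L q ξ η := by
  classical
  set σ := HermStd.qHom hL with hσ
  have hσσ : ∀ x, σ (σ x) = x := HermStd.qHom_qHom hL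
  have hσne : σ ≠ RingHom.id L := fun e => by
    have h1 : ∀ x : L, x ^ q = x := fun x => by
      simpa [hσ] using RingHom.congr_fun e x
    have hq : 1 < q := HermStd.one_lt_q hL
    have hne := FiniteField.X_pow_card_sub_X_ne_zero L hq
    have hle : Fintype.card L ≤ q := by
      calc Fintype.card L = (Finset.univ : Finset L).card := rfl
        _ ≤ (Polynomial.X ^ q - Polynomial.X : Polynomial L).roots.toFinset.card :=
            Finset.card_le_card fun x _ => by
              rw [Multiset.mem_toFinset, Polynomial.mem_roots hne]; simp [h1 x]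
        _ ≤ _ := (Multiset.toFinset_card_le _).trans
            ((Polynomial.card_roots' _).trans (FiniteField.X_pow_card_sub_X_natDegree_eq L hq).le)
    rw [hL] at hle
    nlinarith
  let B : (Fin 3 → L) →ₛₗ[σ] (Fin 3 → L) →ₗ[L] L :=
    LinearMap.mk₂'ₛₗ σ (RingHom.id L) (fun y x => (fun i => σ (y i)) ⬝ᵥ (H *ᵥ x))
      (fun a b c => by simp [dotProduct, add_mul, Finset.sum_add_distrib, -HermStd.qHom_apply])
      (fun t a c => by simp [dotProduct, mul_assoc, Finset.mul_sum, -HermStd.qHom_apply])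
      (fun a b c => by rw [mulVec_add, dotProduct_add])
      (fun t a c => by rw [mulVec_smul, dotProduct_smul]; rfl)
  have hB : ∀ y x, B y x = (fun i => σ (y i)) ⬝ᵥ (H *ᵥ x) := fun y x => rfl
  have hS : B.IsSymm := ⟨fun x y => by
    rw [hB, hB]
    simp only [dotProduct, Matrix.mulVec, Finset.mul_sum, map_sum, map_mul, hσσ]
    rw [Finset.sum_comm]
    refine Finset.sum_congr rfl fun i _ => Finset.sum_congr rfl fun j _ => ?_
    rw [show σ (H j i) = H i j from hH i j]
    ring⟩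
  have hsep : B.SeparatingLeft := fun y hy => by
    have h1 : (fun i => σ (y i)) ᵥ* H = 0 := dotProduct_eq_zero _ fun x => by
      rw [← dotProduct_mulVec]; exact hy x
    have h2 := Matrix.eq_zero_of_vecMul_eq_zero hdet h1
    exact funext fun i => σ.injective (by rw [show σ (y i) = 0 from congrFun h2 i, Pi.zero_apply, map_zero])
  obtain ⟨b, hb⟩ := Bases.exists_orthonormal_basis σ hσne hσσ B hS hsep
  let e : Fin (Module.finrank L (Fin 3 → L)) ≃ Fin 3 := finCongr (by simp)
  let c := b.reindex e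
  have hc : ∀ i j, B (c i) (c j) = if i = j then 1 else 0 := fun i j => by
    simp [c, hb, e.symm.injective.eq_iff]
  let Y : Matrix (Fin 3) (Fin 3) L := Matrix.of fun k i => c i k
  have hY : ∀ v : Fin 3 → L, Y *ᵥ v = ∑ i, v i • c i := fun v => by
    ext k; simp [Y, Matrix.mulVec, dotProduct, mul_comm]
  have hYdet : Y.det ≠ 0 := fun h => by
    obtain ⟨v, hv0, hv⟩ := Matrix.exists_mulVec_eq_zero_iff.2 h
    rw [hY] at hv
    exact hv0 (funext fun i => Fintype.linearIndependent_iff.1 c.linearIndependent v hv i)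
  refine ⟨Matrix.GeneralLinearGroup.mkOfDetNeZero Y hYdet, fun ξ η => ?_⟩
  show (fun i => (Y *ᵥ η) i ^ q) ⬝ᵥ (H *ᵥ (Y *ᵥ ξ)) = _
  have : B (Y *ᵥ η) (Y *ᵥ ξ) = Cfsg.hermForm 3 L q ξ η := by
    rw [hY, hY]
    simp only [map_sum, LinearMap.sum_apply, LinearMap.map_smulₛₗ, LinearMap.smul_apply, map_smul, hc, smul_eq_mul,
      RingHom.id_apply]
    simp [Cfsg.hermForm, hσ, mul_comm]
  exact this

variable {p : ℕ} [Fact p.Prime] [CharP F p]

/-- root groups on three isotropic vectors spanning a unitary space -/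
structure UData (Q : Subgroup (GL (Fin 3) F)) (K L : Subfield F) (q : ℕ) where
  u : Fin 3 → Fin 3 → L
  iso : ∀ i, Cfsg.hermForm 3 L q (u i) (u i) = 0
  nonorth : ∀ i j, i ≠ j → Cfsg.hermForm 3 L q (u i) (u j) ≠ 0
  sep : ∀ x : Fin 3 → L, (∀ i, Cfsg.hermForm 3 L q x (u i) = 0) → x = 0
  pair : PairHyp Q
  root : ∀ i, ∀ c : L, c ≠ 0 → c + c ^ q = 0 → Params Q (incl (u i)) ((c : F) • brow q (u i)) K

theorem exists_udata {P : Subgroup (GL (Fin 3) F)} {K : Subfield F} {μ a τ b : F}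
    (G : Gauge P K μ a τ b) (hτ : τ ∉ K) :
    ∃ (β : ℕ) (T : GL (Fin 3) F), 0 < β ∧ Nat.card K = p ^ β ∧
      Nat.card (fixedField (F := F) p (2 * β)) = (p ^ β) ^ 2 ∧
      Nonempty (UData (conjg T P) K (fixedField (F := F) p (2 * β)) (p ^ β)) := by
  classical
  obtain ⟨β, hβ, hK⟩ := exists_prime_pow_card K p
  obtain ⟨hστ, hτL, hcard⟩ := quad_facts hβ hK hτ G.hs (by
    rw [show τ * (τ - μ * a * b - τ) = -(τ * μ * (a * b)) by ring]
    exact neg_mem (mul_mem G.hn (mul_mem G.ha G.hb)))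
  set L := fixedField (F := F) p (2 * β) with hL
  letI : Fintype L := Fintype.ofFinite L
  set q := p ^ β with hq
  have hFL : Fintype.card L = q ^ 2 := by rw [← Nat.card_eq_fintype_card]; exact hcard
  set σ := iterateFrobenius F p β with hσ
  have hσx : ∀ x, σ x = x ^ q := fun x => iterateFrobenius_def p β x
  have hσK : ∀ x ∈ K, σ x = x := fun x hx => by rw [hσx]; exact (mem_iff_fixed hβ hK).1 hx
  have hKL : ∀ x ∈ K, x ∈ L := fun x hx => by
    rw [hL, mem_fixedField, two_mul, pow_add, pow_mul, (mem_iff_fixed hβ hK).1 hx,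
      (mem_iff_fixed hβ hK).1 hx]
  have hτ' : σ τ = -(μ * a * b) := by rw [hσx, hστ]; ring
  have hμ' : σ μ = -(τ / (a * b)) := by
    have h1 := hσK _ G.hn
    rw [map_mul, hτ'] at h1
    field_simp [G.a_ne, G.b_ne]
    have h2 : μ * (σ μ * (a * b) + τ) = 0 := by linear_combination -h1
    linear_combination (mul_eq_zero.1 h2).resolve_left G.mu_ne
  have hμL : μ ∈ L := by
    have := L.div_mem (hKL _ G.hn) hτL
    rwa [mul_div_cancel_left₀ _ G.tau_ne] at this
  set δ := τ + μ * a * b with hδ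
  have hδ0 : δ ≠ 0 := G.det_ne
  set cv : Fin 3 → F := ![1, -1 / a, 1 / (a * b)] with hcv
  have hcvK : ∀ i, cv i ∈ K := fun i => by
    fin_cases i <;> simp [hcv] <;> first
      | exact one_mem K | exact K.div_mem (neg_mem (one_mem K)) G.ha
      | exact mul_mem (inv_mem G.hb) (inv_mem G.ha)
  have hcv0 : ∀ i, cv i ≠ 0 := fun i => by fin_cases i <;> simp [hcv, G.a_ne, G.b_ne]
  have hδσ : σ δ = -δ := by
    rw [hδ, map_add, map_mul, map_mul, hτ', hμ', hσK a G.ha, hσK b G.hb]
    field_simp [G.a_ne, G.b_ne]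
    ring
  set h : Fin 3 → Fin 3 → F := fun i j => δ * cv i * axes μ a τ b i j with hh
  have hhL : ∀ i j, h i j ∈ L := fun i j =>
    mul_mem (mul_mem (add_mem hτL (mul_mem (mul_mem hμL (hKL _ G.ha)) (hKL _ G.hb))) (hKL _ (hcvK i))) (by
      fin_cases i <;> fin_cases j <;> simp [axes, zero_mem, one_mem, hKL _ G.ha, hKL _ G.hb, hτL, hμL])
  have hherm : ∀ i j, σ (h j i) = h i j := fun i j => by
    simp only [hh, map_mul, hδσ, hσK _ (hcvK j)]
    fin_cases i <;> fin_cases j <;>
      simp [hcv, axes, hτ', hμ', hσK _ G.ha, hσK _ G.hb] <;> field_simp [G.a_ne, G.b_ne]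
  let Hm : Matrix (Fin 3) (Fin 3) L := Matrix.of fun i j => ⟨h i j, hhL i j⟩
  have hdet : Hm.det ≠ 0 := fun e => by
    have e' := congrArg L.subtype e
    rw [RingHom.map_det, map_zero, Matrix.det_fin_three] at e'
    simp [Hm, hh, hcv, axes] at e'
    have h3 : δ * δ * δ * δ = 0 := by
      field_simp [G.a_ne, G.b_ne] at e'
      rw [hδ] at e' ⊢
      grind [G.a_ne, G.b_ne]
    simp [hδ0] at h3
  obtain ⟨Y, hY⟩ := exists_coords hFL (H := Hm) (fun i j => Subtype.ext (by
    show (h j i) ^ q = h i j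
    rw [← hσx, hherm])) hdet
  set YF := GeneralLinearGroup.map L.subtype Y with hYF
  let u : Fin 3 → Fin 3 → L := fun i => ((Y⁻¹ : GL (Fin 3) L) : Matrix (Fin 3) (Fin 3) L) *ᵥ Pi.single i 1
  have hYu : ∀ i, (Y : Matrix (Fin 3) (Fin 3) L) *ᵥ u i = Pi.single i 1 := fun i => by
    exact Max.mulVec_inv_cancel Y _
  have hHu : ∀ ξ i, Cfsg.hermForm 3 L q ξ (u i) = (Hm *ᵥ ((Y : Matrix (Fin 3) (Fin 3) L) *ᵥ ξ)) i := fun ξ i => by
    rw [← hY, hYu]
    rw [show (fun k => (Pi.single i (1 : L) : Fin 3 → L) k ^ q) = Pi.single i 1 from funext fun k => by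
      have hq0 : q ≠ 0 := pow_ne_zero _ (Fact.out : p.Prime).ne_zero
      by_cases hk : k = i <;> simp [hk, zero_pow hq0]]
    rw [single_one_dotProduct]
  refine ⟨β, YF⁻¹, hβ, hK, hcard, ⟨⟨u, fun i => ?_, fun i j hij => ?_, fun x hx => ?_,
    pairHyp_conjg G.pair _, fun i c hc0 hc => ?_⟩⟩⟩
  · rw [hHu, hYu, mulVec_single_one]
    refine Subtype.ext ?_
    fin_cases i <;> simp [Hm, hh, axes]
  · rw [hHu, hYu, mulVec_single_one]
    intro e
    have e' : h j i = 0 := congrArg Subtype.val e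
    simp only [hh, mul_eq_zero, hδ0, hcv0, false_or] at e'
    exact absurd e' (by fin_cases i <;> fin_cases j <;> simp_all [axes, G.a_ne, G.b_ne, G.tau_ne, G.mu_ne])
  · have h1 : Hm *ᵥ ((Y : Matrix (Fin 3) (Fin 3) L) *ᵥ x) = 0 := funext fun i => by
      rw [← hHu]; exact hx i
    have h2 := Matrix.eq_zero_of_mulVec_eq_zero hdet h1
    exact Max.mulVec_inj Y (h2.trans (mulVec_zero _).symm)
  · have h1 := params_conjg YF⁻¹ (G.root i)
    have e1 : ((YF⁻¹ : GL (Fin 3) F) : Matrix (Fin 3) (Fin 3) F) *ᵥ Pi.single i 1 = incl (u i) := by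
      rw [hYF, ← map_inv, ← map_mulVec_incl]
      congr 1
      ext k; simp [incl, Pi.single_apply, apply_ite Subtype.val]
    rw [e1, inv_inv] at h1
    -- the axis is a multiple of the conjugate row
    have e2 : ∀ k, (δ * cv i) * (axes μ a τ b i ᵥ* (YF : Matrix (Fin 3) (Fin 3) F)) k = brow q (u i) k := by
      intro k
      have h2 := congrArg Subtype.val (hHu (Pi.single k 1) i)
      have h3 : Cfsg.hermForm 3 L q (Pi.single k 1) (u i) = u i k ^ q := by
        simp [Cfsg.hermForm, Pi.single_apply]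
      rw [h3, SubmonoidClass.coe_pow] at h2
      rw [brow, h2, mulVec_single_one]
      simp only [Matrix.vecMul, dotProduct, Matrix.mulVec, Finset.mul_sum]
      push_cast
      refine Finset.sum_congr rfl fun j _ => ?_
      simp [Hm, hh, hYF, mul_assoc]
    set k0 : F := (c : F) * (δ * cv i) with hk0
    have hk0K : k0 ∈ K := (mem_iff_fixed hβ hK).2 (by
      have hc' : (c : F) + (c : F) ^ q = 0 := by exact_mod_cast congrArg Subtype.val hc
      rw [← hσx, hk0, map_mul, map_mul, hδσ, hσK _ (hcvK i), hσx, show (c : F) ^ q = -(c : F) by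
        linear_combination hc']
      ring)
    have hk00 : k0 ≠ 0 := by simp [hk0, hδ0, hcv0, hc0]
    have e3 : (c : F) • brow q (u i) = k0 • (axes μ a τ b i ᵥ* (YF : Matrix (Fin 3) (Fin 3) F)) := by
      ext k
      simp only [Pi.smul_apply, smul_eq_mul, ← e2, hk0]
      ring
    intro d
    rw [e3, smul_smul, h1]
    exact ⟨fun hd => by simpa [hk00] using K.div_mem hd hk0K, fun hd => mul_mem hd hk0K⟩

end Cfsg.Agent.PSLThree.Trans
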