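import Mathlib
import Cfsg.Agent.Lib.Forms.Max.SU3.Line
import Cfsg.Agent.Lib.Forms.Max.SU3.Subspace
import Cfsg.Agent.Lib.PSLThree.Trans.Linear
import Cfsg.Agent.Lib.PSLThree.Trans.UnitaryFrame

/-!
# The irrational triangle: unitary type
-/

set_option autoImplicit false
set_option linter.unusedSectionVars false

namespace Cfsg.Agent.PSLThree.Trans

open Matrix Cfsg.Agent.Forms Cfsg.Agent.Classical.Unitary
open Cfsg.Agent.Forms.Max.SL3.Singer

variable {F : Type*} [Field F] [Fintype F]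

local notation "GL3" => GL (Fin 3) F
local notation "Mat" => Matrix (Fin 3) (Fin 3) F
local notation "Vec" => (Fin 3 → F)

variable {L : Subfield F} [Fintype L] {q : ℕ}

/-- the embedding of the rational matrices -/
noncomputable def emb3 (L : Subfield F) : GL (Fin 3) L →* GL (Fin 3) F :=
  GeneralLinearGroup.map L.subtype

theorem emb3_apply (g : GL (Fin 3) L) (i j : Fin 3) :
    (emb3 L g : Mat) i j = (((g : Matrix (Fin 3) (Fin 3) L) i j : L) : F) := rfl

theorem emb3_eq_of_act {g : GL (Fin 3) L} {m : GL3} {v : Fin 3 → L} {c : L}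
    (hg : ∀ x, (g : Matrix (Fin 3) (Fin 3) L) *ᵥ x = x + (c * Cfsg.hermForm 3 L q x v) • v)
    (hm : ∀ x : Vec, (m : Mat) *ᵥ x = x + (((c : F) • brow q v) ⬝ᵥ x) • incl v) :
    emb3 L g = m := by
  refine Units.ext (Matrix.ext fun i j => ?_)
  have h1 := entry_of_act (φ := c • fun k => v k ^ q) (fun x => by
    rw [hg, smul_dotProduct, smul_eq_mul, dotProduct_comm]; rfl) i j
  rw [emb3_apply, h1, entry_of_act hm i j]
  simp [incl, brow, Matrix.one_apply, apply_ite Subtype.val]

variable {Q : Subgroup (GL (Fin 3) F)} {K : Subfield F}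

theorem mem_centres_of_tr (hL : Fintype.card L = q ^ 2) {v : Fin 3 → L} (hv : Cfsg.hermForm 3 L q v v = 0)
    (h : ∀ c : L, c ≠ 0 → c + c ^ q = 0 → Tr Q (incl v) ((c : F) • brow q v)) :
    v ∈ Max.Unitary.centres q (Q.comap (emb3 L) ⊓ (Cfsg.GU 3 L q ⊓ Cfsg.Geo.specialLinear (Fin 3) L)) := by
  refine ⟨hv, fun g c hc hg => ?_⟩
  obtain ⟨s, hs, hsx⟩ := Max.Unitary.exists_tv hL hv hc
  have hgs : g = s := Max.gl_ext fun x => by rw [hg, hsx]
  refine ⟨?_, hgs ▸ hs⟩
  show emb3 L g ∈ Q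
  by_cases hc0 : c = 0
  · have : g = 1 := Max.gl_ext fun x => by
      rw [hg, hc0, zero_mul, zero_smul, add_zero, Units.val_one, one_mulVec]
    rw [this, map_one]
    exact one_mem Q
  obtain ⟨-, m, hm, e⟩ := h c hc0 hc
  rw [emb3_eq_of_act hg e]
  exact hm

theorem UData.SUn_le (D : UData Q K L q) (hL : Fintype.card L = q ^ 2) (hq : 3 ≤ q) :
    Cfsg.GU 3 L q ⊓ Cfsg.Geo.specialLinear (Fin 3) L ≤ Q.comap (emb3 L) := by
  set M := Q.comap (emb3 L) ⊓ (Cfsg.GU 3 L q ⊓ Cfsg.Geo.specialLinear (Fin 3) L) with hM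
  have hcent : ∀ i, D.u i ∈ Max.Unitary.centres q M := fun i =>
    mem_centres_of_tr hL (D.iso i) fun c hc0 hc => (D.root i c hc0 hc).tr
  set φ : Fin 3 → L := fun k => D.u 0 k ^ q with hφ
  set ψ : Fin 3 → L := fun k => D.u 1 k ^ q with hψ
  have hφd : ∀ x, φ ⬝ᵥ x = Cfsg.hermForm 3 L q x (D.u 0) := fun x => dotProduct_comm _ _
  have hψd : ∀ x, ψ ⬝ᵥ x = Cfsg.hermForm 3 L q x (D.u 1) := fun x => dotProduct_comm _ _
  obtain ⟨w, hw0, hwφ, hwψ⟩ := exists_common_zero φ ψ
  have h01 := D.nonorth 1 0 (by decide)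
  have h10 := D.nonorth 0 1 (by decide)
  have hdec : ∀ x, ∃ s t d : L, x = s • D.u 0 + t • D.u 1 + d • w := fun x => by
    obtain ⟨d, hd⟩ := common_zero_unique (φ := φ) (ψ := ψ) (u := D.u 0) (w := D.u 1)
      (y := x - (Cfsg.hermForm 3 L q x (D.u 1) / Cfsg.hermForm 3 L q (D.u 0) (D.u 1)) • D.u 0
        - (Cfsg.hermForm 3 L q x (D.u 0) / Cfsg.hermForm 3 L q (D.u 1) (D.u 0)) • D.u 1)
      (by rw [hφd]; exact D.iso 0) (by rw [hφd]; exact h01) (by rw [hψd]; exact h10) hw0 hwφ hwψ
      (by rw [hφd]; simp [H_sub_left, H_smul_left, D.iso, div_mul_cancel₀ _ h01])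
      (by rw [hψd]; simp [H_sub_left, H_smul_left, D.iso, div_mul_cancel₀ _ h10])
    exact ⟨_, _, d, by rw [← hd]; abel⟩
  rw [hφd] at hwφ
  rw [hψd] at hwψ
  have hw0' : Cfsg.hermForm 3 L q (D.u 0) w = 0 := (H_eq_zero_comm hL).1 hwφ
  have hw1' : Cfsg.hermForm 3 L q (D.u 1) w = 0 := (H_eq_zero_comm hL).1 hwψ
  have hHw : ∀ s t d : L, Cfsg.hermForm 3 L q (s • D.u 0 + t • D.u 1 + d • w) w = d * Cfsg.hermForm 3 L q w w :=
    fun s t d => by simp [H_add_left, H_smul_left, hw0', hw1']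
  have hww : Cfsg.hermForm 3 L q w w ≠ 0 := fun e => hw0 (eq_zero_of_H hL fun x => by
    obtain ⟨s, t, d, rfl⟩ := hdec x
    exact (H_eq_zero_comm hL).1 (by rw [hHw, e, mul_zero]))
  have hline : ∀ v, Cfsg.hermForm 3 L q v w = 0 → Cfsg.hermForm 3 L q v v = 0 →
      v ∈ Max.Unitary.centres q M := fun v hv hvv => by
    obtain ⟨s, t, d, rfl⟩ := hdec v
    rw [hHw] at hv
    rw [(mul_eq_zero.1 hv).resolve_right hww, zero_smul, add_zero] at hvv ⊢
    exact Max.SU3.centres_line hL inf_le_right (hcent 0) (hcent 1) h10 hvv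
  obtain ⟨c, hc0, hc⟩ := exists_traceZero hL
  obtain ⟨g, hg, hgx⟩ := Max.Unitary.exists_tv hL (D.iso 2) hc
  refine (Max.SU3.Subspace.sl_le_of_line hL rfl hq (M := M) inf_le_right hww hline
    ((hcent 2).2 g c hc hgx) fun hmem => ?_).trans inf_le_left
  obtain ⟨t, ht⟩ := Submodule.mem_span_singleton.1 hmem
  rw [hgx] at ht
  have hw2 : Cfsg.hermForm 3 L q w (D.u 2) ≠ 0 := fun e => hw0 (D.sep w fun i => by
    fin_cases i <;> assumption)
  have h1 := congrArg (fun x => Cfsg.hermForm 3 L q x (D.u 0)) ht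
  simp only [H_add_left, H_smul_left, hwφ, mul_zero, zero_add] at h1
  exact mul_ne_zero (mul_ne_zero hc0 hw2) (D.nonorth 2 0 (by decide)) h1.symm

variable {p : ℕ} [Fact p.Prime] [CharP F p]

/-- every transvection of the group is unitary -/
theorem UData.trv_mem (D : UData Q K L q) (hL : Fintype.card L = q ^ 2) (hq : 3 ≤ q)
    (hqp : ∃ β, q = p ^ β) (hKL : ∀ x ∈ K, x ^ q = x) (hLm : ∀ x : F, (x ^ q) ^ q = x → x ∈ L)
    {m : GL3} {y d : Vec} (h0 : d ⬝ᵥ y = 0) (hact : ∀ x, (m : Mat) *ᵥ x = x + (d ⬝ᵥ x) • y) (hm : m ∈ Q) :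
    m ∈ (Cfsg.GU 3 L q ⊓ Cfsg.Geo.specialLinear (Fin 3) L).map (emb3 L) := by
  obtain ⟨β, rfl⟩ := hqp
  set σ := iterateFrobenius F p β with hσ
  have hσx : ∀ x, σ x = x ^ p ^ β := fun x => iterateFrobenius_def p β x
  obtain ⟨η, ζ, hη, hζ, hζ2⟩ := exists_etas hL hq
  obtain ⟨c0, hc00, hc0⟩ := exists_traceZero hL
  have hσc0 : σ (c0 : F) = -(c0 : F) := by
    rw [hσx]
    have : (c0 : F) + (c0 : F) ^ p ^ β = 0 := by exact_mod_cast congrArg Subtype.val hc0
    linear_combination this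
  -- the values on the isotropic vectors
  have hkey : ∀ v : Fin 3 → L, v ≠ 0 → Cfsg.hermForm 3 L (p ^ β) v v = 0 →
      σ ((brow (p ^ β) v ⬝ᵥ y) * (d ⬝ᵥ incl v)) = -((brow (p ^ β) v ⬝ᵥ y) * (d ⬝ᵥ incl v)) := by
    intro v hv0 hvv
    obtain ⟨s, hs, hsx⟩ := Max.Unitary.exists_tv hL hvv hc0
    have hsQ : emb3 L s ∈ Q := D.SUn_le hL hq hs
    have h00 : ((c0 : F) • brow (p ^ β) v) ⬝ᵥ incl v = 0 := by
      have e := congrArg Subtype.val hvv
      rw [smul_dotProduct, smul_eq_mul, dotProduct_comm]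
      simp [Cfsg.hermForm] at e
      simp [dotProduct, incl, brow, e]
    have hact' : ∀ x : Vec, (emb3 L s : Mat) *ᵥ x = x + (((c0 : F) • brow (p ^ β) v) ⬝ᵥ x) • incl v := by
      have h1 := entry_of_act (φ := c0 • fun k => v k ^ p ^ β) (fun x => by
        rw [hsx, smul_dotProduct, smul_eq_mul, dotProduct_comm]; rfl)
      intro x
      ext i
      simp only [Matrix.mulVec, dotProduct, emb3_apply, h1, Pi.add_apply, Pi.smul_apply, smul_eq_mul,
        Finset.sum_mul, Fin.sum_univ_three, incl, brow]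
      push_cast
      fin_cases i <;> simp [Matrix.one_apply] <;> ring
    have hv : Tr Q (incl v) ((c0 : F) • brow (p ^ β) v) := ⟨h00, _, hsQ, hact'⟩
    obtain ⟨i, hi⟩ : ∃ i, Cfsg.hermForm 3 L (p ^ β) v (D.u i) ≠ 0 := by
      by_contra hc
      push Not at hc
      exact hv0 (D.sep v hc)
    have hdot : ∀ a b : Fin 3 → L,
        ((c0 : F) • brow (p ^ β) a) ⬝ᵥ incl b = ((c0 * Cfsg.hermForm 3 L (p ^ β) b a : L) : F) := fun a b => by
      rw [smul_dotProduct, smul_eq_mul, dotProduct_comm]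
      simp [dotProduct, incl, brow, Cfsg.hermForm]
    have hpar := params_of_partner D.pair (D.root i c0 hc00 hc0) hv
      (by rw [hdot]; simpa using mul_ne_zero hc00 hi)
      (by rw [hdot]; simpa using mul_ne_zero hc00 fun e => hi ((H_eq_zero_comm hL).1 e))
    have hK := hKL _ (prod_mem D.pair hpar (⟨h0, m, hm, hact⟩ : Tr Q y d))
    rw [← hσx, smul_dotProduct, smul_eq_mul, map_mul, map_mul, hσc0] at hK
    rw [map_mul]
    have hc0F : (c0 : F) ≠ 0 := fun e => hc00 (Subtype.ext e)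
    refine mul_left_cancel₀ hc0F ?_
    linear_combination -hK
  -- vectors with two non-zero entries
  have htwo : ∀ (θ : L), θ ^ (p ^ β + 1) = -1 → ∀ i j : Fin 3, i ≠ j →
      (y i * d j + σ (y j * d i)) * ((θ : F) * θ) + (y i * d i - y j * d j + σ (y i * d i - y j * d j)) * θ
        - (y j * d i + σ (y i * d j)) = 0 := by
    intro θ hθ i j hij
    set v : Fin 3 → L := Pi.single i 1 + Pi.single j θ with hvdef
    have hq0 : p ^ β ≠ 0 := pow_ne_zero _ (Fact.out : p.Prime).ne_zero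
    have hvv : Cfsg.hermForm 3 L (p ^ β) v v = 0 := by
      rw [pow_succ] at hθ
      simp only [Cfsg.hermForm, hvdef, Fin.sum_univ_three]
      fin_cases i <;> fin_cases j <;> first
        | exact absurd rfl hij
        | (simp [zero_pow hq0]; linear_combination hθ)
    have hv0 : v ≠ 0 := fun e => by
      have := congrFun e i
      simp [hvdef, Pi.single_eq_of_ne hij] at this
    have hkv := hkey v hv0 hvv
    have hθ0 : (θ : F) ≠ 0 := fun e => by
      have h' : θ = 0 := Subtype.ext e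
      rw [h', zero_pow (by omega)] at hθ
      exact one_ne_zero (α := L) (by linear_combination hθ)
    have hσθ : σ (θ : F) = -(θ : F)⁻¹ := by
      rw [hσx]
      have : (θ : F) ^ (p ^ β + 1) = -1 := by exact_mod_cast congrArg Subtype.val hθ
      rw [pow_succ] at this
      field_simp
      linear_combination this
    have e1 : brow (p ^ β) v ⬝ᵥ y = y i + σ θ * y j := by
      simp only [hvdef, brow, dotProduct, Fin.sum_univ_three, hσx]
      fin_cases i <;> fin_cases j <;> first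
        | exact absurd rfl hij
        | (simp [zero_pow hq0] <;> ring)
    have e2 : d ⬝ᵥ incl v = d i + θ * d j := by
      simp only [hvdef, incl, dotProduct, Fin.sum_univ_three]
      fin_cases i <;> fin_cases j <;> first
        | exact absurd rfl hij
        | (simp <;> ring)
    rw [e1, e2, hσθ] at hkv
    simp only [map_mul, map_add, map_neg, map_inv₀, hσθ, map_sub] at hkv ⊢
    field_simp at hkv
    linear_combination hkv
  have hskew : ∀ i j : Fin 3, i ≠ j → σ (y i * d j) = -(y j * d i) ∧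
      σ (y i * d i - y j * d j) = -(y i * d i - y j * d j) := by
    intro i j hij
    have hηζ : (η * ζ) ^ (p ^ β + 1) = -1 := by rw [mul_pow, hη, hζ, mul_one]
    have hηζ2 : (η * ζ * ζ) ^ (p ^ β + 1) = -1 := by rw [mul_pow, hηζ, hζ, mul_one]
    have a1 := htwo η hη i j hij
    have a2 := htwo (η * ζ) hηζ i j hij
    have a3 := htwo (η * ζ * ζ) hηζ2 i j hij
    simp only [MulMemClass.coe_mul] at a2 a3
    have hη0 : (η : F) ≠ 0 := fun e => by
      have h' : η = 0 := Subtype.ext e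
      rw [h', zero_pow (by omega)] at hη
      exact one_ne_zero (α := L) (by linear_combination hη)
    have hζ0 : (ζ : F) ≠ 0 := fun e => by
      have h' : ζ = 0 := Subtype.ext e
      rw [h', zero_pow (by omega)] at hζ
      exact zero_ne_one hζ
    have hζ1 : (ζ : F) - 1 ≠ 0 := sub_ne_zero.2 fun e => hζ2 (by
      rw [show ζ = 1 from Subtype.ext (by simpa using e), one_pow])
    have hζ21 : (ζ : F) * ζ - 1 ≠ 0 := sub_ne_zero.2 fun e => hζ2 (Subtype.ext (by simpa [pow_two] using e))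
    set A := y i * d j + σ (y j * d i)
    set Dd := y i * d i - y j * d j + σ (y i * d i - y j * d j)
    set C := y j * d i + σ (y i * d j)
    have e1 : ((η : F) * ((ζ : F) - 1)) * ((η : F) * ((ζ : F) + 1) * A + Dd) = 0 := by linear_combination a2 - a1
    have e2 : ((η : F) * ((ζ : F) * ζ - 1)) * ((η : F) * ((ζ : F) * ζ + 1) * A + Dd) = 0 := by
      linear_combination a3 - a1
    have f1 := (mul_eq_zero.1 e1).resolve_left (mul_ne_zero hη0 hζ1)
    have f2 := (mul_eq_zero.1 e2).resolve_left (mul_ne_zero hη0 hζ21)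
    have hA : ((η : F) * ((ζ : F) * ((ζ : F) - 1))) * A = 0 := by linear_combination f2 - f1
    have hA0 : A = 0 := (mul_eq_zero.1 hA).resolve_left (mul_ne_zero hη0 (mul_ne_zero hζ0 hζ1))
    have hD0 : Dd = 0 := by rw [hA0] at f1; linear_combination f1
    have hC0 : C = 0 := by rw [hD0, hA0] at a1; linear_combination -a1
    exact ⟨eq_neg_of_add_eq_zero_right hC0, eq_neg_of_add_eq_zero_right hD0⟩
  have hmemL : ∀ x, σ (σ x) = x → x ∈ L := fun x hx => hLm x (by rwa [hσx, hσx] at hx)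
  have hN : ∀ i j, y i * d j ∈ L := outer_mem h0
    (fun i j hij => hmemL _ (by rw [(hskew i j hij).1, map_neg, (hskew j i hij.symm).1, neg_neg]))
    (fun i j => by
      by_cases hij : i = j
      · rw [hij, sub_self]; exact zero_mem L
      · exact hmemL _ (by rw [(hskew i j hij).2, map_neg, (hskew i j hij).2, neg_neg]))
  have hall : ∀ i j, σ (y i * d j) = -(y j * d i) := by
    intro i j
    by_cases hij : i = j
    swap
    · exact (hskew i j hij).1
    subst hij
    by_cases hz : ∀ i j, i ≠ j → y i * d j = 0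
    · rw [outer_eq_zero h0 hz i i, map_zero, neg_zero]
    push Not at hz
    obtain ⟨k, j, hkj, hne⟩ := hz
    obtain ⟨l, hlk, hlj⟩ := exists_other k j
    have h1 : σ ((y l * d j) * (y k * d l)) = σ ((y l * d l) * (y k * d j)) := congrArg σ (by ring)
    rw [map_mul σ (y l * d j) (y k * d l), map_mul σ (y l * d l) (y k * d j), (hskew l j hlj).1,
      (hskew k l hlk.symm).1, (hskew k j hkj).1] at h1
    have hjk : y j * d k ≠ 0 := fun e => by
      have h2 := (hskew k j hkj).1
      rw [e, neg_zero] at h2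
      exact hne (σ.injective (by rw [h2, map_zero]))
    have hll : σ (y l * d l) + y l * d l = 0 := by
      refine (mul_eq_zero.1 (show (σ (y l * d l) + y l * d l) * (y j * d k) = 0 from ?_)).resolve_right hjk
      linear_combination h1
    by_cases hil : i = l
    · subst hil; linear_combination hll
    · have h3 := (hskew i l hil).2
      rw [map_sub] at h3
      linear_combination h3 + hll
  -- the element over `L`
  let N : Matrix (Fin 3) (Fin 3) L := Matrix.of fun i j => ⟨y i * d j, hN i j⟩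
  have hNN : N * N = 0 := by
    refine Matrix.ext fun i j => Subtype.ext ?_
    simp [Matrix.mul_apply, N, Fin.sum_univ_three]
    rw [dotProduct, Fin.sum_univ_three] at h0
    linear_combination (y i * d j) * h0
  have hNq : N.map (HermStd.qHom hL) = -Nᵀ := by
    refine Matrix.ext fun i j => Subtype.ext ?_
    simp [N, ← hσx, -map_mul, hall]
  have hpres : (1 + N)ᵀ * (1 + N).map (HermStd.qHom hL) = 1 := by
    rw [Matrix.map_add _ (map_add _), Matrix.map_one _ (map_zero _) (map_one _), hNq, transpose_add,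
      transpose_one, mul_add, mul_one, mul_neg, add_mul, one_mul, ← transpose_mul, hNN, transpose_zero]
    abel
  have hdet : (1 + N).det = 1 := by
    refine L.subtype.injective ?_
    rw [RingHom.map_det, map_one, ← det_of_trv h0 hact]
    congr 1
    ext i j
    rw [entry_of_act hact]
    simp [N, Matrix.one_apply, apply_ite Subtype.val]
  refine ⟨Matrix.GeneralLinearGroup.mkOfDetNeZero (1 + N) (by rw [hdet]; exact one_ne_zero),
    Max.Unitary.mem_SUn.2 ⟨(preserves_iff hL _).2 hpres, hdet⟩, ?_⟩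
  refine Units.ext (Matrix.ext fun i j => ?_)
  rw [emb3_apply, entry_of_act hact]
  show (((1 + N) i j : L) : F) = _
  simp [N, Matrix.one_apply, apply_ite Subtype.val]

theorem unitary_type (p : ℕ) [Fact p.Prime] [CharP F p] {P : Subgroup GL3} {T : GL3} {μ a τ b : F} (hC : Core P) (ht : HasTrv P)
    (G : Gauge (conjg T P) K μ a τ b) (hτ : τ ∉ K) : UniType P := by
  obtain ⟨β, S, hβ, hK, hcard, ⟨D⟩⟩ := exists_udata (p := p) G hτ
  set L := fixedField (F := F) p (2 * β) with hLdef
  letI : Fintype L := Fintype.ofFinite L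
  set q := p ^ β with hqdef
  have hL : Fintype.card L = q ^ 2 := by rw [← Nat.card_eq_fintype_card]; exact hcard
  rw [conjg_conjg] at D
  set T' := S * T with hT'
  have hq : 3 ≤ q := by
    obtain ⟨k, hkK, hk0, hk1⟩ := G.big
    letI : Fintype K := Fintype.ofFinite K
    rw [← hK, Nat.card_eq_fintype_card]
    exact Fintype.two_lt_card_iff.2 ⟨0, 1, ⟨k, hkK⟩, zero_ne_one,
      fun e => hk0 (congrArg Subtype.val e).symm, fun e => hk1 (congrArg Subtype.val e).symm⟩
  have hle := D.SUn_le hL hq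
  have hKL : ∀ x ∈ K, x ^ q = x := fun x hx => (mem_iff_fixed hβ hK).1 hx
  have hLm : ∀ x : F, (x ^ q) ^ q = x → x ∈ L := fun x hx => by
    rw [hLdef, mem_fixedField, two_mul, pow_add, pow_mul]; exact hx
  have hsub : P ≤ ((Cfsg.GU 3 L q ⊓ Cfsg.Geo.specialLinear (Fin 3) L).map (emb3 L)).comap
      (MulAut.conj T').toMonoidHom := le_of_trv hC ht fun m hm u φ h0 hact => by
    refine D.trv_mem hL hq ⟨β, rfl⟩ hKL hLm
      (show (φ ᵥ* ((T'⁻¹ : GL3) : Mat)) ⬝ᵥ ((T' : Mat) *ᵥ u) = 0 by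
        rw [← dotProduct_mulVec, Max.inv_mulVec_cancel, h0]) (fun x => ?_) (conj_mem_conjg hm)
    show ((T' * m * T'⁻¹ : GL3) : Mat) *ᵥ x = _
    rw [Max.mulVec_mul_GL, Max.mulVec_mul_GL, hact, mulVec_add, mulVec_smul, Max.mulVec_inv_cancel,
      ← dotProduct_mulVec]
  refine ⟨L, q, T', by rw [Nat.card_eq_fintype_card]; exact hL, fun x => ⟨fun hx => ?_, fun ⟨hd, hent, hU⟩ => ?_⟩⟩
  · obtain ⟨g, hg, hge⟩ := hsub hx
    have hge' : emb3 L g = T' * x * T'⁻¹ := hge
    refine ⟨det_eq_one hC.le hx, fun i j => by rw [← hge', emb3_apply]; exact SetLike.coe_mem _, ?_⟩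
    rw [← hge']
    have h1 := (preserves_iff hL _).1 (Max.Unitary.mem_SUn.1 hg).1
    refine Matrix.ext fun i j => ?_
    have h2 := congrArg Subtype.val (congrFun (congrFun h1 i) j)
    simpa [Matrix.mul_apply, emb3_apply, Matrix.one_apply, apply_ite Subtype.val] using h2
  · let R : Matrix (Fin 3) (Fin 3) L := Matrix.of fun i j => ⟨_, hent i j⟩
    have hdR : R.det = 1 := L.subtype.injective (by
      rw [RingHom.map_det, map_one]
      show ((T' * x * T'⁻¹ : GL3) : Mat).det = 1
      rw [Units.val_mul, Units.val_mul, Matrix.det_units_conj, hd])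
    have hRA : ∀ i j, ((T' * x * T'⁻¹ : GL3) : Mat) i j = (R i j : F) := fun _ _ => rfl
    have hpres : Rᵀ * R.map (HermStd.qHom hL) = 1 := by
      refine Matrix.ext fun i j => Subtype.ext ?_
      have := congrFun (congrFun hU i) j
      simp only [Matrix.mul_apply, Matrix.transpose_apply, Matrix.map_apply, hRA] at this
      simpa [Matrix.mul_apply, Matrix.one_apply, apply_ite Subtype.val, -Units.val_mul] using this
    set g := Matrix.GeneralLinearGroup.mkOfDetNeZero R (by rw [hdR]; exact one_ne_zero)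
    have h2 : emb3 L g ∈ conjg T' P := hle (Max.Unitary.mem_SUn.2 ⟨(preserves_iff hL _).2 hpres, hdR⟩)
    have e : emb3 L g = T' * x * T'⁻¹ := Units.ext (by ext i j; rfl)
    rw [e] at h2
    simpa [mul_assoc] using mem_conjg.1 h2

end Cfsg.Agent.PSLThree.Trans
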